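import Groth.Agent.Lib.DerCat.ProjOrth
import Groth.Agent.Lib.WayOut.Bounded
import Mathlib.Algebra.Homology.DerivedCategory.KInjective

/-!
# Morphisms between objects in the heart and truncated objects
-/

set_option autoImplicit false
set_option linter.style.haveILetI false
set_option linter.unusedSectionVars false

universe w v u

open CategoryTheory CategoryTheory.Limits DerivedCategory

namespace Groth.Agent.H56.CurveDual.Heart

open Groth.Agent.Lib.DerCat.TStruct

variable {A : Type u} [Category.{v} A] [Abelian A] [HasDerivedCategory.{w} A]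

theorem isIso_homologyMap_truncGEπ (Y : DerivedCategory A) (a i : ℤ) (hi : a ≤ i) :
    IsIso ((homologyFunctor A i).map ((TStructure.t.truncGEπ a).app Y)) :=
  @isIso_homologyMap_mor₂ _ _ _ _ _ (TStructure.t.triangleLTGE_distinguished a Y) (a - 1)
    (inferInstance : TStructure.t.IsLE ((TStructure.t.truncLT a).obj Y) (a - 1)) i (by lia)

theorem isIso_homologyMap_truncLTι (Y : DerivedCategory A) (a i : ℤ) (hi : i < a) :
    IsIso ((homologyFunctor A i).map ((TStructure.t.truncLTι a).app Y)) :=
  @isIso_homologyMap_mor₁ _ _ _ _ _ (TStructure.t.triangleLTGE_distinguished a Y) a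
    (inferInstance : TStructure.t.IsGE ((TStructure.t.truncGE a).obj Y) a) i hi

/-- Maps from a complex concentrated in degrees `≤ n` to an object of degree `n`. -/
theorem eq_zero_to_single {Z : DerivedCategory A} (n : ℤ) (hZ : Z.IsLE n) {N : A}
    (f : Z ⟶ (singleFunctor A n).obj N) (h : (homologyFunctor A n).map f = 0) : f = 0 := by
  let τ := (TStructure.t.truncGE n).obj Z
  haveI hτ2 : τ.IsLE n := inferInstanceAs (TStructure.t.IsLE τ n)
  haveI hτ1 : τ.IsGE n := inferInstanceAs (TStructure.t.IsGE τ n)
  obtain ⟨M, ⟨e⟩⟩ := exists_iso_singleFunctor_obj_of_isGE_of_isLE τ n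
  haveI hN : TStructure.t.IsGE ((singleFunctor A n).obj N) n :=
    (inferInstance : ((singleFunctor A n).obj N).IsGE n)
  let f' := TStructure.t.descTruncGE f n
  have hf : (TStructure.t.truncGEπ n).app Z ≫ f' = f := TStructure.t.π_descTruncGE f n
  haveI := isIso_homologyMap_truncGEπ Z n n le_rfl
  have h1 : (homologyFunctor A n).map f' = 0 := by
    refine (cancel_epi ((homologyFunctor A n).map ((TStructure.t.truncGEπ n).app Z))).1 ?_
    rw [← Functor.map_comp, hf, h, comp_zero]
  obtain ⟨g, hg⟩ := (singleFunctor A n).map_surjective (e.inv ≫ f')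
  have h2 : (homologyFunctor A n).map ((singleFunctor A n).map g) = 0 := by
    rw [hg, Functor.map_comp, h1, comp_zero]
  have h3 : g = 0 := by
    have hn := (singleFunctorCompHomologyFunctorIso A n).hom.naturality g
    simp only [Functor.comp_map, Functor.id_map] at hn
    rw [h2, zero_comp] at hn
    exact (cancel_epi ((singleFunctorCompHomologyFunctorIso A n).hom.app M)).1
      (hn.symm.trans comp_zero.symm)
  rw [h3, Functor.map_zero] at hg
  have h4 : f' = 0 := (cancel_epi e.inv).1 (hg.symm.trans comp_zero.symm)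
  rw [← hf, h4, comp_zero]

/-- Maps from an object of degree `n` to a complex concentrated in degrees `≥ n`. -/
theorem eq_zero_from_single {Z : DerivedCategory A} (n : ℤ) (hZ : Z.IsGE n) {M : A}
    (f : (singleFunctor A n).obj M ⟶ Z) (h : (homologyFunctor A n).map f = 0) : f = 0 := by
  let τ := (TStructure.t.truncLT (n + 1)).obj Z
  haveI hτ2 : τ.IsLE n := TStructure.t.isLE_truncLT_obj Z (n + 1) n (by lia)
  haveI hτ1 : τ.IsGE n := inferInstanceAs (TStructure.t.IsGE τ n)
  obtain ⟨N, ⟨e⟩⟩ := exists_iso_singleFunctor_obj_of_isGE_of_isLE τ n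
  haveI hM : TStructure.t.IsLE ((singleFunctor A n).obj M) n :=
    (inferInstance : ((singleFunctor A n).obj M).IsLE n)
  let f' := TStructure.t.liftTruncLT f n (n + 1) rfl
  have hf : f' ≫ (TStructure.t.truncLTι (n + 1)).app Z = f :=
    TStructure.t.liftTruncLT_ι f n (n + 1) rfl
  haveI := isIso_homologyMap_truncLTι Z (n + 1) n (by lia)
  have h1 : (homologyFunctor A n).map f' = 0 := by
    refine (cancel_mono ((homologyFunctor A n).map ((TStructure.t.truncLTι (n + 1)).app Z))).1 ?_
    rw [← Functor.map_comp, hf, h, zero_comp]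
  obtain ⟨g, hg⟩ := (singleFunctor A n).map_surjective (f' ≫ e.hom)
  have h2 : (homologyFunctor A n).map ((singleFunctor A n).map g) = 0 := by
    rw [hg, Functor.map_comp, h1, zero_comp]
  have h3 : g = 0 := by
    have hn := (singleFunctorCompHomologyFunctorIso A n).hom.naturality g
    simp only [Functor.comp_map, Functor.id_map] at hn
    rw [h2, zero_comp] at hn
    exact (cancel_epi ((singleFunctorCompHomologyFunctorIso A n).hom.app M)).1
      (hn.symm.trans comp_zero.symm)
  rw [h3, Functor.map_zero] at hg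
  have h4 : f' = 0 := (cancel_mono e.hom).1 (hg.symm.trans zero_comp.symm)
  rw [← hf, h4, zero_comp]

/-- Realisation of a map on the top cohomology. -/
theorem exists_to_single {Z : DerivedCategory A} (n : ℤ) (hZ : Z.IsLE n) {N : A}
    (α : (homologyFunctor A n).obj Z ⟶ N) :
    ∃ f : Z ⟶ (singleFunctor A n).obj N, (homologyFunctor A n).map f =
      α ≫ (singleFunctorCompHomologyFunctorIso A n).inv.app N := by
  let τ := (TStructure.t.truncGE n).obj Z
  haveI hτ2 : τ.IsLE n := inferInstanceAs (TStructure.t.IsLE τ n)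
  haveI hτ1 : τ.IsGE n := inferInstanceAs (TStructure.t.IsGE τ n)
  obtain ⟨M, ⟨e⟩⟩ := exists_iso_singleFunctor_obj_of_isGE_of_isLE τ n
  haveI := isIso_homologyMap_truncGEπ Z n n le_rfl
  let β : M ⟶ N := (singleFunctorCompHomologyFunctorIso A n).inv.app M ≫
    (homologyFunctor A n).map e.inv ≫ CategoryTheory.inv ((homologyFunctor A n).map ((TStructure.t.truncGEπ n).app Z)) ≫ α
  refine ⟨(TStructure.t.truncGEπ n).app Z ≫ e.hom ≫ (singleFunctor A n).map β, ?_⟩
  have hn := (singleFunctorCompHomologyFunctorIso A n).hom.naturality β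
  simp only [Functor.comp_map, Functor.id_map] at hn
  have hβ : (homologyFunctor A n).map ((singleFunctor A n).map β) =
      (singleFunctorCompHomologyFunctorIso A n).hom.app M ≫ β ≫
        (singleFunctorCompHomologyFunctorIso A n).inv.app N := by
    rw [← Category.assoc, ← hn]
    simp
  rw [Functor.map_comp, Functor.map_comp, hβ]
  simp only [β, Category.assoc, Iso.hom_inv_id_app_assoc, ← Functor.map_comp_assoc, Iso.hom_inv_id]
  simp

/-- A projective object has no maps to complexes in negative degrees. -/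
theorem eq_zero_of_projective {P : A} [Projective P] {W : DerivedCategory A} (hW : W.IsLE (-1))
    (f : (singleFunctor A 0).obj P ⟶ W) : f = 0 := by
  obtain ⟨K, hK, ⟨e⟩⟩ := exists_iso_Q_obj_of_isLE W (-1)
  let e' := (singleFunctorIsoCompQ A 0).app P
  let P' := (CochainComplex.singleFunctor A 0).obj P
  haveI : P'.IsStrictlyGE 0 := inferInstance
  haveI : P'.IsStrictlyLE 0 := inferInstance
  have hP : ∀ i : ℤ, Projective (P'.X i) := fun i => by
    by_cases hi : i = 0
    · subst hi
      exact Projective.of_iso (HomologicalComplex.singleObjXSelf (ComplexShape.up ℤ) 0 P).symm inferInstance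
    · exact (HomologicalComplex.isZero_single_obj_X (ComplexShape.up ℤ) 0 P i hi).projective
  have h := (Lib.DerCat.ProjOrth.hom_eq_zero P' K 0 0 hP fun i hi =>
    (K.exactAt_of_isLE (-1) i (by lia)).isZero_homology).2 (e'.inv ≫ f ≫ e.hom)
  exact (cancel_mono e.hom).1 (((cancel_epi e'.inv).1 (h.trans comp_zero.symm)).trans zero_comp.symm)

/-- Lifting a map out of a projective object. -/
theorem exists_from_single {P : A} [Projective P] {Z : DerivedCategory A} (hZ : Z.IsLE 0)
    (β : P ⟶ (homologyFunctor A 0).obj Z) :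
    ∃ f : (singleFunctor A 0).obj P ⟶ Z,
      (homologyFunctor A 0).map f = (singleFunctorCompHomologyFunctorIso A 0).hom.app P ≫ β := by
  let τ := (TStructure.t.truncGE 0).obj Z
  haveI hτ2 : τ.IsLE 0 := inferInstanceAs (TStructure.t.IsLE τ 0)
  haveI hτ1 : τ.IsGE 0 := inferInstanceAs (TStructure.t.IsGE τ 0)
  obtain ⟨M, ⟨e⟩⟩ := exists_iso_singleFunctor_obj_of_isGE_of_isLE τ 0
  haveI := isIso_homologyMap_truncGEπ Z 0 0 le_rfl
  let γ : P ⟶ M := β ≫ (homologyFunctor A 0).map ((TStructure.t.truncGEπ 0).app Z) ≫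
    (homologyFunctor A 0).map e.hom ≫ (singleFunctorCompHomologyFunctorIso A 0).hom.app M
  let φ : (singleFunctor A 0).obj P ⟶ τ := (singleFunctor A 0).map γ ≫ e.inv
  have hzero : φ ≫ ((TStructure.t.triangleLTGE 0).obj Z).mor₃ = 0 :=
    eq_zero_of_projective (W := ((TStructure.t.truncLT 0).obj Z)⟦(1 : ℤ)⟧)
      (haveI := TStructure.t.isLE_truncLT_obj Z 0 (-1) (by lia)
       haveI := TStructure.t.isLE_shift ((TStructure.t.truncLT 0).obj Z) (-1) 1 (-2) (by lia)
       TStructure.t.isLE_of_le _ (-2) (-1) (by lia)) _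
  obtain ⟨g, hg⟩ := Pretriangulated.Triangle.coyoneda_exact₃ _
    (TStructure.t.triangleLTGE_distinguished 0 Z) φ hzero
  refine ⟨g, ?_⟩
  have hn := (singleFunctorCompHomologyFunctorIso A 0).hom.naturality γ
  simp only [Functor.comp_map, Functor.id_map] at hn
  have hγ : (homologyFunctor A 0).map ((singleFunctor A 0).map γ) =
      (singleFunctorCompHomologyFunctorIso A 0).hom.app P ≫ γ ≫
        (singleFunctorCompHomologyFunctorIso A 0).inv.app M := by
    rw [← Category.assoc, ← hn]
    simp
  refine (cancel_mono ((homologyFunctor A 0).map ((TStructure.t.truncGEπ 0).app Z))).1 ?_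
  have hg' : φ = g ≫ (TStructure.t.truncGEπ 0).app Z := hg
  refine ((Functor.map_comp _ _ _).symm.trans (congrArg _ hg'.symm)).trans ?_
  rw [Functor.map_comp, hγ]
  simp only [γ, Category.assoc, Iso.hom_inv_id_app_assoc, ← Functor.map_comp, Iso.hom_inv_id,
    Iso.hom_inv_id_app, Category.comp_id]
  simp

/-- A map from a projective object to a complex in degrees `≤ 0` is determined by `H⁰`. -/
theorem eq_zero_of_projective_of_homology {P : A} [Projective P] {Z : DerivedCategory A} (hZ : Z.IsLE 0)
    (g : (singleFunctor A 0).obj P ⟶ Z) (h : (homologyFunctor A 0).map g = 0) : g = 0 := by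
  have h0 : g ≫ (TStructure.t.truncGEπ 0).app Z = 0 := by
    refine eq_zero_from_single (Z := (TStructure.t.truncGE 0).obj Z) 0
      (inferInstance : TStructure.t.IsGE ((TStructure.t.truncGE 0).obj Z) 0) _ ?_
    rw [Functor.map_comp, h, zero_comp]
  obtain ⟨g', hg'⟩ := Pretriangulated.Triangle.coyoneda_exact₂ _
    (TStructure.t.triangleLTGE_distinguished 0 Z) g h0
  rw [hg', eq_zero_of_projective (W := (TStructure.t.truncLT 0).obj Z)
    (TStructure.t.isLE_truncLT_obj Z 0 (-1) (by lia)) g']
  exact zero_comp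

/-- An injective object receives no maps from complexes in positive degrees. -/
theorem eq_zero_of_injective {I : A} [Injective I] {W : DerivedCategory A} (hW : W.IsGE 1)
    (φ : W ⟶ (singleFunctor A 0).obj I) : φ = 0 := by
  obtain ⟨K, hK, ⟨e⟩⟩ := exists_iso_Q_obj_of_isGE W 1
  let J := (CochainComplex.singleFunctor A 0).obj I
  haveI : J.IsStrictlyGE 0 := inferInstance
  haveI : ∀ i : ℤ, Injective (J.X i) := fun i => by
    by_cases hi : i = 0
    · subst hi
      exact Injective.of_iso (HomologicalComplex.singleObjXSelf (ComplexShape.up ℤ) 0 I).symm inferInstance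
    · exact (HomologicalComplex.isZero_single_obj_X (ComplexShape.up ℤ) 0 I i hi).injective
  haveI : J.IsKInjective := CochainComplex.isKInjective_of_injective J 0
  let e' : Q.obj J ≅ (singleFunctor A 0).obj I := ((singleFunctorIsoCompQ A 0).app I).symm
  obtain ⟨g, hg⟩ := (CochainComplex.IsKInjective.Qh_map_bijective
    ((HomotopyCategory.quotient A (.up ℤ)).obj K) J).surjective
    ((quotientCompQhIso A).hom.app K ≫ (e.inv ≫ φ ≫ e'.inv) ≫ (quotientCompQhIso A).inv.app J)
  obtain ⟨f, rfl⟩ := (HomotopyCategory.quotient A (.up ℤ)).map_surjective g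
  have hf : f = 0 := by
    refine HomologicalComplex.to_single_hom_ext ?_
    exact (K.isZero_of_isStrictlyGE 1 0 (by lia)).eq_of_src _ _
  subst hf
  rw [Functor.map_zero, Functor.map_zero] at hg
  rw [← cancel_epi e.inv, ← cancel_mono e'.inv, Category.assoc, comp_zero, zero_comp]
  rw [← cancel_epi ((quotientCompQhIso A).hom.app K),
    ← cancel_mono ((quotientCompQhIso A).inv.app J), comp_zero, zero_comp]
  rw [Category.assoc, ← hg]

/-- Maps from a complex in degrees `≥ 0` to an injective object in degree `0`. -/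
theorem eq_zero_to_injective {I : A} [Injective I] {Z : DerivedCategory A} (hZ : Z.IsGE 0)
    (f : Z ⟶ (singleFunctor A 0).obj I) (h : (homologyFunctor A 0).map f = 0) : f = 0 := by
  haveI := isIso_homologyMap_truncLTι Z 1 0 (by lia)
  have h0 : (TStructure.t.truncLTι 1).app Z ≫ f = 0 := by
    refine eq_zero_to_single 0 (TStructure.t.isLE_truncLT_obj Z 1 0 (by lia)) _ ?_
    rw [Functor.map_comp, h, comp_zero]
  obtain ⟨g, hg⟩ := Pretriangulated.Triangle.yoneda_exact₂ _
    (TStructure.t.triangleLTGE_distinguished 1 Z) f h0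
  rw [hg, eq_zero_of_injective (W := (TStructure.t.truncGE 1).obj Z)
    (inferInstance : TStructure.t.IsGE ((TStructure.t.truncGE 1).obj Z) 1) g]
  exact comp_zero

end Groth.Agent.H56.CurveDual.Heart
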