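import Groth.Agent.H56.CurveDual.Duality
import Groth.Agent.H25.Node.AtWorst
import Groth.Agent.H18.ExtIdeal
import Groth.Agent.H34.DefAmple
import Groth.Agent.Lib.NormAmple.GenStalk
import Groth.Agent.Lib.DerivedOX.TensorSheaf
import Groth.Agent.Lib.TensorMod.Invertible
import Groth.Agent.Lib.TensorMod.TensorQCoh
import Groth.Agent.Lib.Curves.MonoSection
import Groth.Agent.Lib.Snapper.Twist
import Groth.Agent.Lib.QCoh.Closure
import Groth.Agent.S0051

/-!
# Maps from powers of an ample twist of the dualizing module
-/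

set_option autoImplicit false
set_option linter.style.haveILetI false
set_option linter.unusedSectionVars false
set_option maxHeartbeats 1000000

universe u

open CategoryTheory CategoryTheory.Limits AlgebraicGeometry TopologicalSpace MonoidalCategory

attribute [local instance] HasDerivedCategory.standard

namespace Groth.Agent.H56.CurveDual.AmpleVanish

open Groth.Agent.Lib Groth.Agent.H56.CurveDual Groth.Agent.Lib.Modules

variable {X : Scheme.{u}}

/-- Tensor products of maps bijective on a stalk. -/
theorem bijective_tmap {M M' N N' : X.Modules} (f : M ⟶ M') (g : N ⟶ N') (x : X)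
    (hf : Function.Bijective (StalkModule.stalkMapₗ f x))
    (hg : Function.Bijective (StalkModule.stalkMapₗ g x)) :
    Function.Bijective (StalkModule.stalkMapₗ (TensorMod.Basic.tmap f g) x) := by
  let lf := LinearEquiv.ofBijective _ hf
  let lg := LinearEquiv.ofBijective _ hg
  have h1 : TensorMod.Basic.tmap f g = (DCoh.tensorBi.map f).app N ≫ (DCoh.tensorBi.obj M').map g := by
    have e : (DCoh.tensorBi.map f).app N ≫ (DCoh.tensorBi.obj M').map g =
        DCoh.shP.map (DCoh.toP.map f ⊗ₘ DCoh.toP.map g) := by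
      rw [MonoidalCategory.tensorHom_def, Functor.map_comp]
      rfl
    rw [e]
    rfl
  have h2 : ∀ z, DerivedOX.TensorSheaf.tensorStalk x M' N' (StalkModule.stalkMapₗ (TensorMod.Basic.tmap f g) x z) =
      TensorProduct.congr lf lg (DerivedOX.TensorSheaf.tensorStalk x M N z) := fun z => by
    rw [h1]
    exact DerivedOX.TensorSheaf.tensorStalk_natural (x := x) f g z
  have h3 : (StalkModule.stalkMapₗ (TensorMod.Basic.tmap f g) x : _ → _) =
      (DerivedOX.TensorSheaf.tensorStalk x M' N').symm ∘ TensorProduct.congr lf lg ∘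
        DerivedOX.TensorSheaf.tensorStalk x M N := funext fun z =>
    (DerivedOX.TensorSheaf.tensorStalk x M' N').injective ((h2 z).trans (by simp))
  rw [h3]
  exact (LinearEquiv.bijective _).comp ((LinearEquiv.bijective _).comp (LinearEquiv.bijective _))

theorem bijective_hom {M N : X.Modules} (e : M ≅ N) (x : X) :
    Function.Bijective (StalkModule.stalkMapₗ e.hom x) :=
  (StalkModule.isIso_iff_stalkMapₗ_bijective e.hom).1 inferInstance x

theorem bijective_comp {M N P : X.Modules} {f : M ⟶ N} {g : N ⟶ P} {x : X}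
    (hf : Function.Bijective (StalkModule.stalkMapₗ f x))
    (hg : Function.Bijective (StalkModule.stalkMapₗ g x)) :
    Function.Bijective (StalkModule.stalkMapₗ (f ≫ g) x) := by
  rw [StalkModule.stalkMapₗ_comp]
  exact hg.comp hf

/-- Nonclosed points of finite closed sets. -/
theorem isClosed_of_mem_finite [JacobsonSpace X] {D : Set X} (hD : IsClosed D) (hfin : D.Finite)
    {x : X} (hx : x ∈ D) : IsClosed ({x} : Set X) := by
  haveI : Finite D := hfin.to_subtype
  haveI : JacobsonSpace D := JacobsonSpace.of_isClosedEmbedding hD.isClosedEmbedding_subtypeVal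
  have h := hD.isClosedEmbedding_subtypeVal.isClosedMap _ (isClosed_discrete ({⟨x, hx⟩} : Set D))
  rwa [Set.image_singleton] at h

/-- Nonclosed points are maximal in dimension one. -/
theorem isMaxPt_of_not_isClosed (hdim : topologicalKrullDim X ≤ 1) {x : X}
    (hx : ¬ IsClosed ({x} : Set X)) : NormAmple.GenStalk.IsMaxPt x := fun z hz => by
  by_contra hne
  obtain ⟨w, hw, hwne⟩ : ∃ w ∈ closure ({x} : Set X), w ≠ x := by
    by_contra h
    push Not at h
    exact hx (isClosed_of_closure_subset fun w hw => h w hw)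
  let a : IrreducibleCloseds X := ⟨closure {w}, isIrreducible_singleton.closure, isClosed_closure⟩
  let b : IrreducibleCloseds X := ⟨closure {x}, isIrreducible_singleton.closure, isClosed_closure⟩
  let c : IrreducibleCloseds X := ⟨closure {z}, isIrreducible_singleton.closure, isClosed_closure⟩
  have hab : a < b := by
    refine lt_of_le_of_ne (show closure {w} ⊆ closure {x} from
      specializes_iff_closure_subset.mp (specializes_iff_mem_closure.2 hw)) fun e => hwne ?_
    have e' : closure ({w} : Set X) = closure {x} := congrArg SetLike.coe e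
    exact ((inseparable_iff_closure_eq.mpr e').eq : w = x)
  have hbc : b < c := by
    refine lt_of_le_of_ne (show closure {x} ⊆ closure {z} from
      specializes_iff_closure_subset.mp hz) fun e => hne ?_
    have e' : closure ({x} : Set X) = closure {z} := congrArg SetLike.coe e
    exact (inseparable_iff_closure_eq.mpr e').eq.symm
  let s : LTSeries (IrreducibleCloseds X) :=
    (((RelSeries.singleton _ a).snoc b hab).snoc c (by simpa using hbc))
  have hlen : s.length = 2 := rfl
  have h2 : ((2 : ℕ) : WithBot ℕ∞) ≤ 1 := by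
    rw [← hlen]
    exact le_trans (Order.LTSeries.length_le_krullDim s) hdim
  norm_cast at h2

theorem main {k : Type u} [Field k] [X.Over (Spec (CommRingCat.of k))]
    [IsProper (X ↘ Spec (CommRingCat.of k))] (hdim : topologicalKrullDim X = 1)
    (hX : Curv2.AtWorstNodal k X)
    [DCoh.HasRpush (X ↘ Spec (CommRingCat.of k))] (h : DCoh.RpushPreservesQCoh (X ↘ Spec (CommRingCat.of k)))
    [DCoh.HasShriek (X ↘ Spec (CommRingCat.of k)) h]
    (OY : DCoh.DQCoh (Spec (CommRingCat.of k)))
    (eO : OY.obj ≅ DCoh.inD (Spec (CommRingCat.of k)) (Coh.structureModule (Spec (CommRingCat.of k))))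
    (D : Set X) (hDfin : D.Finite) (hDcl : IsClosed D) (LD : X.Modules) (hLD : PicF.IsInvertible LD)
    (hinv : ClSub.IsInverseOf LD (ClSub.idealMod (Scheme.IdealSheafData.vanishingIdeal (⟨D, hDcl⟩ : Closeds X))))
    (hst : CohB1.IsAmple (CohB1.tensorMod (DCoh.dualizingMod (X ↘ Spec (CommRingCat.of k)) h OY 1) LD))
    (e : ℕ) (he : 1 ≤ e) :
    Subsingleton (Coh.HH X (CohB1.tensorPow (CohB1.tensorMod
      (DCoh.dualizingMod (X ↘ Spec (CommRingCat.of k)) h OY 1) LD) (e + 1)) 1) := by
  let p := X ↘ Spec (CommRingCat.of k)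
  let om := DCoh.dualizingMod p h OY 1
  let M := CohB1.tensorMod om LD
  have hM : PicF.IsInvertible M := hst.1
  haveI := LocallyOfFiniteType.isLocallyNoetherian p
  haveI : CompactSpace X := QuasiCompact.compactSpace_of_compactSpace p
  haveI : JacobsonSpace X := LocallyOfFiniteType.jacobsonSpace p
  haveI : AlgebraicGeometry.IsReduced X := H25.Node.AtWorst.isReduced k X hX
  have hq : ∀ n, Coh.IsQCoh (CohB1.tensorPow M n) := fun n =>
    TensorMod.QCohInv.isQCoh_of_isInvertible (TensorMod.Invertible.isInvertible_tensorPow hM n)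
  refine Duality.subsingleton_HH_one p hdim.le h (DCoh.shriek p h) (DCoh.shriekAdj p h) OY eO _ (hq _)
    fun g => ?_
  have key : ∀ η : X, ¬ IsClosed ({η} : Set X) → StalkModule.stalkMapₗ g η = 0 := by
    intro η hη
    by_contra hg
    let I := Scheme.IdealSheafData.vanishingIdeal (⟨D, hDcl⟩ : Closeds X)
    have hηD : η ∉ (I.support : Set X) := by
      rw [Scheme.IdealSheafData.coe_support_vanishingIdeal]
      exact fun hmem => hη (isClosed_of_mem_finite hDcl hDfin hmem)
    obtain ⟨eI⟩ := hinv
    let s : Coh.structureModule X ⟶ LD := eI.inv ≫ TensorMod.Basic.tmap (𝟙 LD) (ClSub.idealModι I) ≫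
      (TensorMod.Basic.rightUnit LD).hom
    have hid : ∀ N : X.Modules, Function.Bijective (StalkModule.stalkMapₗ (𝟙 N) η) := fun N => by
      rw [StalkModule.stalkMapₗ_id]
      exact Function.bijective_id
    have hs : Function.Bijective (StalkModule.stalkMapₗ s η) :=
      bijective_comp (bijective_hom eI.symm η) (bijective_comp
        (bijective_tmap _ _ η (hid _) (H18.ExtIdeal.bijective_idealModι I hηD)) (bijective_hom _ η))
    let r : om ⟶ M := (TensorMod.Basic.rightUnit om).inv ≫ TensorMod.Basic.tmap (𝟙 om) s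
    have hr : Function.Bijective (StalkModule.stalkMapₗ r η) :=
      bijective_comp (bijective_hom (TensorMod.Basic.rightUnit om).symm η) (bijective_tmap _ _ η (hid _) hs)
    obtain ⟨-, -, -, β, -, -⟩ := Curves.MonoSection.exists_gen_stalk hM η
    obtain ⟨-, -, -, β', -, -⟩ := Curves.MonoSection.exists_gen_stalk
      (TensorMod.Invertible.isInvertible_tensorPow hM (e + 1)) η
    have hfield : IsField (X.presheaf.stalk η) :=
      NormAmple.GenStalk.isField_stalk (isMaxPt_of_not_isClosed hdim.le hη)
    let ψ : CohB1.tensorPow M (e + 1) ⟶ M := g ≫ r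
    -- the maps are bijective at `η`
    have hψ : Function.Bijective (StalkModule.stalkMapₗ ψ η) := by
      let φ : X.presheaf.stalk η →ₗ[X.presheaf.stalk η] X.presheaf.stalk η :=
        β.symm.toLinearMap ∘ₗ StalkModule.stalkMapₗ ψ η ∘ₗ β'.toLinearMap
      have hφ1 : φ 1 ≠ 0 := fun hz => hg <| LinearMap.ext fun v => by
        obtain ⟨c, rfl⟩ := β'.surjective v
        have h1 : φ c = 0 := by
          rw [← mul_one c, ← smul_eq_mul, map_smul, hz, smul_zero]
        have h2 : StalkModule.stalkMapₗ r η (StalkModule.stalkMapₗ g η (β' c)) = 0 := by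
          rw [← LinearMap.comp_apply, ← StalkModule.stalkMapₗ_comp]
          exact (β.symm.map_eq_zero_iff).1 h1
        exact hr.1 (h2.trans (map_zero _).symm)
      obtain ⟨b, hb⟩ := hfield.mul_inv_cancel hφ1
      have hφ : Function.Bijective φ := by
        have happ : ∀ c, φ c = c * φ 1 := fun c => by
          rw [← smul_eq_mul, ← map_smul, smul_eq_mul, mul_one]
        refine ⟨fun c c' hcc => ?_, fun c => ⟨c * b, ?_⟩⟩
        · rw [happ c, happ c'] at hcc
          calc c = (c * φ 1) * b := by rw [mul_assoc, hb, mul_one]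
            _ = (c' * φ 1) * b := by rw [hcc]
            _ = c' := by rw [mul_assoc, hb, mul_one]
        · rw [happ (c * b), mul_assoc, mul_comm b, hb, mul_one]
      have h3 : (StalkModule.stalkMapₗ ψ η : _ → _) = β ∘ φ ∘ β'.symm := funext fun v => by simp [φ]
      rw [h3]
      exact β.bijective.comp (hφ.comp β'.symm.bijective)
    have hgb : Function.Bijective (StalkModule.stalkMapₗ g η) := by
      have h4 : Function.Bijective (StalkModule.stalkMapₗ r η ∘ StalkModule.stalkMapₗ g η) := by
        rw [← LinearMap.coe_comp, ← StalkModule.stalkMapₗ_comp]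
        exact hψ
      exact (Function.Bijective.of_comp_iff' hr _).1 h4
    -- shifting the index
    have hθ : ∀ n : ℕ, ∃ θ : CohB1.tensorPow M (e + (n + 1)) ⟶ CohB1.tensorPow M (n + 1),
        Function.Bijective (StalkModule.stalkMapₗ θ η) := by
      intro n
      induction n with
      | zero => exact ⟨ψ ≫ (TensorMod.Basic.leftUnit M).inv,
          bijective_comp hψ (bijective_hom (TensorMod.Basic.leftUnit M).symm η)⟩
      | succ n ih =>
        obtain ⟨θ, hθ⟩ := ih
        exact ⟨TensorMod.Basic.tmap θ (𝟙 M), bijective_tmap _ _ η hθ (hid _)⟩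
    have hbig : ∀ B : ℕ, ∃ n, B ≤ n ∧ ∃ φ : CohB1.tensorPow M (n + 1) ⟶ om,
        Function.Bijective (StalkModule.stalkMapₗ φ η) := by
      intro B
      induction B with
      | zero => exact ⟨e, Nat.zero_le _, g, hgb⟩
      | succ B ih =>
        obtain ⟨n, hn, φ, hφ⟩ := ih
        obtain ⟨θ, hθ⟩ := hθ n
        exact ⟨e + n, by omega, θ ≫ φ, bijective_comp hθ hφ⟩
    obtain ⟨n₀, hn₀⟩ := (Groth.Agent.S0051.result k X p M hM).1 hst _
      (Snapper.Twist.isCoh_structureModule X)
    obtain ⟨n, hn, φ, hφ⟩ := hbig n₀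
    have hvan : Subsingleton (Coh.HH X (CohB1.tensorPow M (n + 1)) 1) :=
      H34.HOne.h1_of_iso (TensorMod.Basic.leftUnit _) (hn₀ (n + 1) (by omega) 1 Nat.one_pos)
    have hφ0 := Duality.hom_eq_zero p hdim.le h (DCoh.shriek p h) (DCoh.shriekAdj p h) OY eO _ (hq _) hvan φ
    obtain ⟨-, -, -, β'', -, -⟩ := Curves.MonoSection.exists_gen_stalk
      (TensorMod.Invertible.isInvertible_tensorPow hM (n + 1)) η
    have h5 : β'' 1 = 0 := hφ.1 (by rw [hφ0, StalkModule.stalkMapₗ_zero]; simp)
    exact one_ne_zero (β''.injective (h5.trans (map_zero β'').symm))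
  -- the image is torsion
  haveI := hq (e + 1)
  haveI : (om).IsQuasicoherent := ((DCoh.shriek p h).obj OY).property (-1)
  let C := kernel (cokernel.π g)
  have hq' : (cokernel g).IsQuasicoherent := QCoh.Closure.isQCoh_cokernel _
  haveI := hq'
  have hCq : Coh.IsQCoh C := QCoh.Closure.isQCoh_kernel _
  have hCt : ∀ η, ¬ IsClosed ({η} : Set X) → Subsingleton (C.presheaf.stalk η) := fun η hη =>
    subsingleton_of_forall_eq 0 fun c => by
      obtain ⟨u, rfl⟩ := (Modules.Stalk.epi_iff_stalk_surjective (Abelian.factorThruImage g)).1 inferInstance η c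
      apply (StalkModule.mono_iff_stalkMapₗ_injective (Abelian.image.ι g)).1 inferInstance η
      rw [map_zero]
      show StalkModule.stalkMapₗ (Abelian.image.ι g) η
        (StalkModule.stalkMapₗ (Abelian.factorThruImage g) η u) = 0
      rw [← LinearMap.comp_apply, ← StalkModule.stalkMapₗ_comp, Abelian.image.fac, key η hη,
        LinearMap.zero_apply]
  have h6 : Abelian.image.ι g = 0 := Duality.hom_eq_zero p hdim.le h (DCoh.shriek p h) (DCoh.shriekAdj p h)
    OY eO C hCq (H34.DefAmple.h1_of_torsion hCt) _
  exact (Abelian.image.fac g).symm.trans ((congrArg (Abelian.factorThruImage g ≫ ·) h6).trans comp_zero)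

end Groth.Agent.H56.CurveDual.AmpleVanish
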