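import Groth.Agent.H56.CurveDual.Duality
import Groth.Agent.Lib.DerivedOX.PullComp
import Groth.Agent.Lib.DerivedOX.PushExact
import Groth.Agent.Lib.DerivedOX.ProjClosed
import Groth.Agent.Lib.Exchange.HomAdj
import Groth.Agent.Lib.RefHull.HomSh
import Groth.Agent.Lib.CohDelta.IdealMul.FinPush
import Groth.Agent.Lib.QCoh.Pullback
import Groth.Agent.Lib.Snapper.Twist

/-!
# The dualizing module of a closed subscheme of a curve
-/

set_option autoImplicit false
set_option linter.style.haveILetI false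
set_option linter.unusedSectionVars false
set_option maxHeartbeats 800000

universe u

open CategoryTheory CategoryTheory.Limits AlgebraicGeometry TopologicalSpace DerivedCategory Opposite

attribute [local instance] HasDerivedCategory.standard
attribute [local instance] Groth.Agent.Lib.DerivedOX.LeftExists.hasLpull

namespace Groth.Agent.H56.CurveDual.ClosedDual

open Groth.Agent.Lib Groth.Agent.Lib.DerivedOX Groth.Agent.H56.CurveDual.Point
open Groth.Agent.H56.CurveDual.Duality

variable {k : Type u} [Field k] {X : Scheme.{u}}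

section Rep

variable (f : X ⟶ pt k) [IsProper f] (hX : topologicalKrullDim X ≤ (1 : ℕ))
  [DCoh.HasRpush f] (hf : DCoh.RpushPreservesQCoh f)
  (a : DCoh.DQCoh (pt k) ⥤ DCoh.DQCoh X) (adj : DCoh.RpushQ f hf ⊣ a)
  (O : DCoh.DQCoh (pt k)) (eO : O.obj ≅ DCoh.inD (pt k) (Coh.structureModule (pt k)))
  (ι : sg (om a O) ⟶ (a.obj O).obj) [IsIso ((homologyFunctor X.Modules (-1)).map ι)]

/-- Maps to `ω` are functionals on `Rf_* F[1]`. -/
noncomputable def repMap (F : X.Modules) (hF : Coh.IsQCoh F) (g : F ⟶ om a O) :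
    (DCoh.Rpush f).obj (sg F) ⟶ DCoh.inD (pt k) (Coh.structureModule (pt k)) :=
  tr f hf a adj O eO (isQCohD_sg F hF) ((singleFunctor X.Modules (-1)).map g ≫ ι)

include hX in
theorem repMap_bijective (F : X.Modules) (hF : Coh.IsQCoh F) :
    Function.Bijective (repMap f hf a adj O eO ι F hF) := by
  refine ⟨fun g g' h => sub_eq_zero.1 (sg_comp_eq_zero a O ι _ ?_), fun w => ?_⟩
  · rw [Functor.map_sub, Preadditive.sub_comp, sub_eq_zero]
    exact tr_injective f hf a adj O eO _ h
  · obtain ⟨u, rfl⟩ := tr_surjective f hf a adj O eO (isQCohD_sg F hF) w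
    obtain ⟨g, rfl⟩ := exists_eq_sg f hX hf a adj O eO ι u
    exact ⟨g, rfl⟩

theorem repMap_natural {F' F : X.Modules} (hF' : Coh.IsQCoh F') (hF : Coh.IsQCoh F) (h : F' ⟶ F)
    (g : F ⟶ om a O) :
    repMap f hf a adj O eO ι F' hF' (h ≫ g) =
      (DCoh.Rpush f).map ((singleFunctor X.Modules (-1)).map h) ≫ repMap f hf a adj O eO ι F hF g := by
  unfold repMap
  rw [← tr_precomp f hf a adj O eO (isQCohD_sg F hF) (isQCohD_sg F' hF'), Functor.map_comp, Category.assoc]

end Rep

variable {Y : Scheme.{u}} (i : Y ⟶ X)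

/-- Exact direct image commutes with `Q`. -/
noncomputable def rpushQIso [DCoh.HasRpush i] [IsClosedImmersion i] :
    DerivedCategory.Q ⋙ DCoh.Rpush i ≅
      (Scheme.Modules.pushforward i).mapHomologicalComplex (ComplexShape.up ℤ) ⋙ DerivedCategory.Q :=
  haveI := PushExact.preservesFiniteColimits_pushforward i
  NatIso.ofComponents (fun K =>
    haveI := PushExact.isIso_unit_app i K
    (DCoh.Rpush i).mapIso ((DerivedCategory.quotientCompQhIso Y.Modules).app K).symm ≪≫
    (asIso (((DCoh.pushKh i).totalRightDerivedUnit DerivedCategory.Qh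
      (HomotopyCategory.quasiIso Y.Modules (ComplexShape.up ℤ))).app
        ((HomotopyCategory.quotient Y.Modules (ComplexShape.up ℤ)).obj K))).symm ≪≫
    (DerivedCategory.quotientCompQhIso X.Modules).app
      (((Scheme.Modules.pushforward i).mapHomologicalComplex (ComplexShape.up ℤ)).obj K))
    (fun {K L} φ => by
      haveI := PushExact.isIso_unit_app i K
      haveI := PushExact.isIso_unit_app i L
      let η := (DCoh.pushKh i).totalRightDerivedUnit DerivedCategory.Qh
        (HomotopyCategory.quasiIso Y.Modules (ComplexShape.up ℤ))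
      have hn := η.naturality ((HomotopyCategory.quotient Y.Modules (ComplexShape.up ℤ)).map φ)
      simp only [Functor.comp_obj, Functor.comp_map, Iso.trans_hom, Functor.mapIso_hom, Iso.symm_hom,
        asIso_inv, Iso.app_hom, Iso.app_inv]
      rw [← Functor.map_comp_assoc, quotientCompQhIso_inv_naturality, Functor.map_comp_assoc]
      simp only [Category.assoc]
      congr 1
      rw [← cancel_epi (η.app ((HomotopyCategory.quotient Y.Modules (ComplexShape.up ℤ)).obj K))]
      rw [IsIso.hom_inv_id_assoc]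
      rw [← Category.assoc]
      erw [← hn]
      simp only [Category.assoc]
      erw [IsIso.hom_inv_id_assoc]
      exact quotientCompQhIso_hom_naturality
        (((Scheme.Modules.pushforward i).mapHomologicalComplex (ComplexShape.up ℤ)).map φ))

/-- `Ri_* (F[1]) = (i_*F)[1]`. -/
noncomputable def rpushSgIso [DCoh.HasRpush i] [IsClosedImmersion i] :
    singleFunctor Y.Modules (-1) ⋙ DCoh.Rpush i ≅
      Scheme.Modules.pushforward i ⋙ singleFunctor X.Modules (-1) :=
  Functor.isoWhiskerRight (singleFunctorIsoCompQ Y.Modules (-1)) _ ≪≫ Functor.associator _ _ _ ≪≫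
    Functor.isoWhiskerLeft _ (rpushQIso i) ≪≫ (Functor.associator _ _ _).symm ≪≫
    Functor.isoWhiskerRight (HomologicalComplex.singleMapHomologicalComplex _ _ _) _ ≪≫
    Functor.associator _ _ _ ≪≫ Functor.isoWhiskerLeft _ (singleFunctorIsoCompQ X.Modules (-1)).symm

open Groth.Agent.Lib.TensorMod Groth.Agent.Lib.TensorMod.Basic Groth.Agent.Lib.TensorMod.Free in
open Groth.Agent.Lib.TensorMod.Pullback (pb pf unitSec unitSec_natural) in
open Groth.Agent.Lib.Modules.TensorSec (tens app_tens tmap_tens) in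
theorem theta_natural_left {E E' : X.Modules} (a : E ⟶ E') (F : Y.Modules) :
    tmap a (𝟙 _) ≫ Modules.ProjFormula.theta i E' F =
      Modules.ProjFormula.theta i E F ≫ (pf i).map (tmap ((pb i).map a) (𝟙 F)) := by
  refine hom_ext_pairM fun V x m => ?_
  rw [← app_tens, ← app_tens]
  change (Modules.ProjFormula.theta i E' F).app V ((tmap a (𝟙 _)).app V (tens x m)) =
    ((pf i).map (tmap ((pb i).map a) (𝟙 F))).app V ((Modules.ProjFormula.theta i E F).app V (tens x m))
  rw [tmap_tens, Modules.ProjFormula.theta_tens, Modules.ProjFormula.theta_tens]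
  refine Eq.trans ?_ (tmap_tens ((pb i).map a) (𝟙 F) (U := i ⁻¹ᵁ V) (unitSec i E x)
    (show Γ(F, i ⁻¹ᵁ V) from m)).symm
  rw [unitSec_natural]
  rfl

variable [IsClosedImmersion i]

/-- `i_*O ⊗ G = i_* i^* G`. -/
noncomputable def tensorPushIso (G : X.Modules) :
    CohB1.tensorMod ((Scheme.Modules.pushforward i).obj (Coh.structureModule Y)) G ≅
      (Scheme.Modules.pushforward i).obj ((Scheme.Modules.pullback i).obj G) :=
  haveI := ProjClosed.isIso_theta i G (Coh.structureModule Y)
  TensorMod.Basic.comm _ _ ≪≫ asIso (Modules.ProjFormula.theta i G (Coh.structureModule Y)) ≪≫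
    (Scheme.Modules.pushforward i).mapIso (TensorMod.Basic.rightUnit _)

open Groth.Agent.Lib.TensorMod.Basic in
theorem tensorPushIso_natural {G G' : X.Modules} (h : G ⟶ G') :
    tmap (𝟙 ((Scheme.Modules.pushforward i).obj (Coh.structureModule Y))) h ≫ (tensorPushIso i G').hom =
      (tensorPushIso i G).hom ≫ (Scheme.Modules.pushforward i).map ((Scheme.Modules.pullback i).map h) := by
  simp only [tensorPushIso, Iso.trans_hom, asIso_hom, Functor.mapIso_hom, Category.assoc]
  rw [comm_natural_assoc]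
  refine congrArg ((comm _ _).hom ≫ ·) ?_
  erw [← Category.assoc, theta_natural_left i h (Coh.structureModule Y)]
  rw [Category.assoc]
  refine congrArg (Modules.ProjFormula.theta i G (Coh.structureModule Y) ≫ ·) ?_
  refine Eq.trans ?_ ((Scheme.Modules.pushforward i).map_comp _ _)
  refine Eq.trans ((Scheme.Modules.pushforward i).map_comp _ _).symm (congrArg _ ?_)
  exact rightUnit_natural ((Scheme.Modules.pullback i).map h)

variable (p : X ⟶ pt k) [IsProper p] (hdim : topologicalKrullDim X ≤ (1 : ℕ))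
  [DCoh.HasRpush p] (hp : DCoh.RpushPreservesQCoh p)
  (a : DCoh.DQCoh (pt k) ⥤ DCoh.DQCoh X) (adj : DCoh.RpushQ p hp ⊣ a)
  [DCoh.HasRpush i] [DCoh.HasRpush (i ≫ p)] (hq : DCoh.RpushPreservesQCoh (i ≫ p))
  (b : DCoh.DQCoh (pt k) ⥤ DCoh.DQCoh Y) (adjb : DCoh.RpushQ (i ≫ p) hq ⊣ b)
  (O : DCoh.DQCoh (pt k)) (eO : O.obj ≅ DCoh.inD (pt k) (Coh.structureModule (pt k)))

include hdim adj adjb eO hp hq in
theorem main : Nonempty ((Scheme.Modules.pushforward i).obj (om b O) ≅
    RefHull.homSh ((Scheme.Modules.pushforward i).obj (Coh.structureModule Y)) (om a O)) := by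
  haveI := LocallyOfFiniteType.isLocallyNoetherian p
  haveI := LocallyOfFiniteType.isLocallyNoetherian (i ≫ p)
  have hY : topologicalKrullDim Y ≤ (1 : ℕ) :=
    i.isClosedEmbedding.isInducing.topologicalKrullDim_le.trans hdim
  obtain ⟨ιX, hιX⟩ := exists_ι p hdim hp a adj O eO
  obtain ⟨ιY, hιY⟩ := exists_ι (i ≫ p) hY hq b adjb O eO
  haveI := hιX
  haveI := hιY
  let pf := Scheme.Modules.pushforward i
  let pb := Scheme.Modules.pullback i
  let A := pf.obj (Coh.structureModule Y)
  have hpush : ∀ F : Y.Modules, Coh.IsQCoh F → Coh.IsQCoh (pf.obj F) := fun F hF =>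
    haveI : F.IsQuasicoherent := hF
    QCoh.Pushforward.isQCoh_pushforward i (M := F)
  have hpull : ∀ G : X.Modules, Coh.IsQCoh G → Coh.IsQCoh (pb.obj G) := fun G hG =>
    haveI : G.IsQuasicoherent := hG
    QCoh.Pullback.isQCoh_pullback i G
  let c := Functor.isoWhiskerLeft (singleFunctor Y.Modules (-1)) (PullComp.rpushCompIso i p).symm ≪≫
    (Functor.associator _ _ _).symm ≪≫ Functor.isoWhiskerRight (rpushSgIso i) (DCoh.Rpush p)
  -- transfer of maps to the dualizing modules
  let Φ : ∀ (F : Y.Modules) (hF : Coh.IsQCoh F), (F ⟶ om b O) → (pf.obj F ⟶ om a O) := fun F hF g =>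
    Function.surjInv (repMap_bijective p hdim hp a adj O eO ιX (pf.obj F) (hpush F hF)).2
      (c.inv.app F ≫ repMap (i ≫ p) hq b adjb O eO ιY F hF g)
  have hΦ : ∀ F hF g, repMap p hp a adj O eO ιX (pf.obj F) (hpush F hF) (Φ F hF g) =
      c.inv.app F ≫ repMap (i ≫ p) hq b adjb O eO ιY F hF g := fun F hF g =>
    Function.surjInv_eq _ _
  have hΦbij : ∀ F hF, Function.Bijective (Φ F hF) := fun F hF => by
    refine ⟨fun g g' h => ?_, fun w => ?_⟩
    · refine (repMap_bijective (i ≫ p) hY hq b adjb O eO ιY F hF).1 ((cancel_epi (c.inv.app F)).1 ?_)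
      rw [← hΦ, ← hΦ, h]
    · obtain ⟨g, hg⟩ := (repMap_bijective (i ≫ p) hY hq b adjb O eO ιY F hF).2
        (c.hom.app F ≫ repMap p hp a adj O eO ιX (pf.obj F) (hpush F hF) w)
      refine ⟨g, (repMap_bijective p hdim hp a adj O eO ιX (pf.obj F) (hpush F hF)).1 ?_⟩
      rw [hΦ, hg, Iso.inv_hom_id_app_assoc]
  have hΦnat : ∀ (F' F : Y.Modules) (hF' : Coh.IsQCoh F') (hF : Coh.IsQCoh F) (h : F' ⟶ F) g,
      Φ F' hF' (h ≫ g) = pf.map h ≫ Φ F hF g := fun F' F hF' hF h g => by
    refine (repMap_bijective p hdim hp a adj O eO ιX (pf.obj F') (hpush F' hF')).1 ?_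
    rw [hΦ, repMap_natural (i ≫ p) hq b adjb O eO ιY hF' hF, repMap_natural p hp a adj O eO ιX (hpush F' hF') (hpush F hF),
      hΦ, ← Category.assoc, ← Category.assoc]
    exact congrArg (· ≫ _) (c.inv.naturality h).symm
  -- representability
  let adjP := Scheme.Modules.pullbackPushforwardAdjunction i
  let N := pf.obj (om b O)
  let M := RefHull.homSh A (om a O)
  have hNq : Coh.IsQCoh N := hpush _ ((b.obj O).property (-1))
  have hAc : Coh.IsCoh A := CohDelta.IdealMul.FinPush.isCoh_push i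
    (Snapper.Twist.isCoh_structureModule Y)
  have hMq : Coh.IsQCoh M := RefHull.HomSh.isQCoh_homSh hAc ((a.obj O).property (-1))
  let Ψ : ∀ (G : X.Modules) (hG : Coh.IsQCoh G), (G ⟶ N) → (G ⟶ M) := fun G hG u =>
    ZarCoh.Exchange.HomAdj.homEquiv A (om a O) G ((tensorPushIso i G).hom ≫
      Φ (pb.obj G) (hpull G hG) ((adjP.homEquiv G (om b O)).symm u))
  have hΨbij : ∀ G hG, Function.Bijective (Ψ G hG) := fun G hG =>
    (ZarCoh.Exchange.HomAdj.homEquiv A (om a O) G).bijective.comp
      ((((tensorPushIso i G).symm.homFromEquiv).bijective).comp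
        ((hΦbij _ _).comp (adjP.homEquiv G (om b O)).symm.bijective))
  have hΨnat : ∀ (G' G : X.Modules) hG' hG (h : G' ⟶ G) u, Ψ G' hG' (h ≫ u) = h ≫ Ψ G hG u :=
    fun G' G hG' hG h u => by
      simp only [Ψ]
      rw [← ZarCoh.Exchange.HomAdj.homEquiv_natural, Adjunction.homEquiv_naturality_left_symm,
        hΦnat _ _ (hpull G' hG') (hpull G hG) (pb.map h)]
      refine congrArg (ZarCoh.Exchange.HomAdj.homEquiv A (om a O) G') ?_
      rw [← Category.assoc, ← Category.assoc]
      exact congrArg (· ≫ _) (tensorPushIso_natural i h).symm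
  let v := Ψ N hNq (𝟙 N)
  obtain ⟨w, hw⟩ := (hΨbij M hMq).2 (𝟙 M)
  refine ⟨⟨v, w, ?_, ?_⟩⟩
  · refine (hΨbij N hNq).1 ?_
    rw [hΨnat N M hNq hMq v w, hw, Category.comp_id]
  · rw [← hΨnat M N hMq hNq w (𝟙 N), Category.comp_id, hw]

end Groth.Agent.H56.CurveDual.ClosedDual
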