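import Groth.Agent.Lib.Curves.GlobalSections

/-!
# `H⁰(O) = k` as a statement on `appTop`
-/

set_option autoImplicit false

universe u

open CategoryTheory Limits AlgebraicGeometry Opposite

namespace Groth.Agent.H56.CurveDual.Consts

open Groth.Agent.Lib

theorem isIso_appTop {k : Type u} [Field k] (X : Scheme.{u}) [X.Over (Spec (CommRingCat.of k))]
    (h0 : Module.finrank k (Coh.HH X (Coh.structureModule X) 0) = 1) :
    IsIso (X ↘ Spec (CommRingCat.of k)).appTop := by
  let c := X ↘ Spec (CommRingCat.of k)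
  letI := Curves.GlobalSections.secModule k (Coh.structureModule X)
  rw [(Curves.GlobalSections.h0Linear k (Coh.structureModule X)).finrank_eq] at h0
  letI : Algebra k Γ(X, ⊤) := RingHom.toAlgebra (S := Γ(X, ⊤)) (Coh.toGlobal c)
  have h1 : Module.finrank k Γ(X, ⊤) = 1 := h0
  haveI : Nontrivial Γ(X, ⊤) := Module.nontrivial_of_finrank_eq_succ h1
  have hb : Function.Bijective (algebraMap k Γ(X, ⊤)) :=
    ⟨(algebraMap k Γ(X, ⊤)).injective, fun a => by
      obtain ⟨c', hc'⟩ := exists_smul_eq_of_finrank_eq_one h1 one_ne_zero a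
      exact ⟨c', (Algebra.algebraMap_eq_smul_one c').trans hc'⟩⟩
  have hb2 : Function.Bijective c.appTop.hom := by
    have h2 : Function.Bijective (c.appTop.hom ∘ (Scheme.ΓSpecIso (CommRingCat.of k)).inv.hom) := hb
    exact (Function.Bijective.of_comp_iff _
      (ConcreteCategory.bijective_of_isIso (Scheme.ΓSpecIso (CommRingCat.of k)).inv)).1 h2
  exact (ConcreteCategory.isIso_iff_bijective c.appTop).2 hb2

end Groth.Agent.H56.CurveDual.Consts
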