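import Groth.Agent.Lib.Curves.MonoSection
import Groth.Agent.Lib.Curves.LES
import Groth.Prelude.Def_CurvBase

/-!
# Maps from and to an invertible module with a regular section
-/

set_option autoImplicit false
set_option linter.style.haveILetI false

universe u

open CategoryTheory CategoryTheory.Limits AlgebraicGeometry TopologicalSpace Opposite

namespace Groth.Agent.H56.CurveDual.Line

open Groth.Agent.Lib Groth.Agent.Lib.Modules Groth.Agent.Lib.TensorMod.Gen
open Groth.Agent.Lib.Ample.GenLocus

variable {X : Scheme.{u}}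

/-- The stalk of `O` is free on the unit. -/
theorem bijective_unit_stalk (x : X) :
    Function.Bijective fun r : X.presheaf.stalk x =>
      r • (Coh.structureModule X).presheaf.germ ⊤ x trivial (one X ⊤) :=
  H34.UFDExt.Gen.IsGen.stalk_bijective (M := Coh.structureModule X)
    (fun W hW => isGen_one (X := X) ⊤ W hW) (y := x) trivial

/-- An endomorphism of `O` is invertible when its value at `1` is a unit. -/
theorem isIso_of_isUnit (c : Coh.structureModule X ⟶ Coh.structureModule X)
    (h : IsUnit (show Γ(X, ⊤) from c.app ⊤ (one X ⊤))) : IsIso c := by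
  refine (StalkModule.isIso_iff_stalkMapₗ_bijective c).2 fun x => ?_
  have hb := bijective_unit_stalk x
  set u : (Coh.structureModule X).presheaf.stalk x :=
    (Coh.structureModule X).presheaf.germ ⊤ x trivial (one X ⊤) with hu
  let a : X.presheaf.stalk x := X.presheaf.germ ⊤ x trivial (show Γ(X, ⊤) from c.app ⊤ (one X ⊤))
  have ha : IsUnit a := h.map (X.presheaf.germ ⊤ x trivial).hom
  have hcu : StalkModule.stalkMapₗ c x u = a • u := by
    rw [hu, StalkModule.stalkMapₗ_germ c (x := x) (U := ⊤) trivial]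
    rw [← StalkModule.germ_smul (M := Coh.structureModule X) (x := x) (U := ⊤) trivial]
    congr 1
    exact (mul_one (show Γ(X, ⊤) from c.app ⊤ (one X ⊤))).symm
  have key : ∀ r, StalkModule.stalkMapₗ c x (r • u) = (r * a) • u := fun r => by
    rw [map_smul, hcu, smul_smul]
  refine ⟨fun p q hpq => ?_, fun q => ?_⟩
  · obtain ⟨r, rfl⟩ := hb.2 p
    obtain ⟨r', rfl⟩ := hb.2 q
    have := hb.1 (((key r).symm.trans hpq).trans (key r'))
    exact congrArg (· • u) (ha.mul_right_cancel this)
  · obtain ⟨r, rfl⟩ := hb.2 q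
    exact ⟨(r * ↑ha.unit⁻¹) • u, (key _).trans (by rw [mul_assoc, ha.val_inv_mul, mul_one])⟩

/-- A map out of `O` vanishing at `1` is zero. -/
theorem eq_zero_of_app_one {M : X.Modules} (c : Coh.structureModule X ⟶ M)
    (h : c.app ⊤ (one X ⊤) = 0) : c = 0 := by
  refine Scheme.Modules.hom_ext _ _ fun V => ?_
  ext a
  have h1 : c.app V (one X V) = 0 := by
    rw [← rs_app_one c (le_top : V ≤ ⊤), h]
    exact map_zero _
  exact (app_eq_smul c (show Γ(X, V) from a)).trans ((congrArg ((show Γ(X, V) from a) • ·) h1).trans (smul_zero _))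

variable {L : X.Modules} (hL : PicF.IsInvertible L) (s : Coh.structureModule X ⟶ L) [Mono s]

include hL in
/-- A map from `L` killing a regular section is zero. -/
theorem eq_zero_of_comp (r : L ⟶ Coh.structureModule X) (h : s ≫ r = 0) : r = 0 := by
  refine StalkModule.hom_ext_stalkMapₗ fun x => ?_
  rw [StalkModule.stalkMapₗ_zero]
  have hb := bijective_unit_stalk x
  set u : (Coh.structureModule X).presheaf.stalk x :=
    (Coh.structureModule X).presheaf.germ ⊤ x trivial (one X ⊤)
  obtain ⟨U, hx, e, β, -, -⟩ := Curves.MonoSection.exists_gen_stalk hL x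
  let w := β 1
  obtain ⟨b, hbw⟩ : ∃ b, b • w = StalkModule.stalkMapₗ s x u := ⟨β.symm (StalkModule.stalkMapₗ s x u), by
    rw [← map_smul, smul_eq_mul, mul_one, LinearEquiv.apply_symm_apply]⟩
  obtain ⟨c, hc⟩ := hb.2 (StalkModule.stalkMapₗ r x w)
  have hs := (StalkModule.mono_iff_stalkMapₗ_injective s).mp inferInstance x
  have h0 : StalkModule.stalkMapₗ r x (StalkModule.stalkMapₗ s x u) = 0 := by
    rw [← LinearMap.comp_apply, ← StalkModule.stalkMapₗ_comp, h, StalkModule.stalkMapₗ_zero]
    rfl
  have hbc : (c * b) • u = (0 : X.presheaf.stalk x) • u := by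
    rw [zero_smul, mul_comm, mul_smul]
    refine (congrArg (b • ·) hc).trans ?_
    rw [← map_smul, hbw, h0]
  have hcb : c * b = 0 := hb.1 hbc
  have hc0 : c = 0 := by
    have : StalkModule.stalkMapₗ s x (c • u) = StalkModule.stalkMapₗ s x ((0 : X.presheaf.stalk x) • u) := by
      rw [map_smul, ← hbw, smul_smul, hcb, map_smul, zero_smul, zero_smul]
    exact hb.1 (hs this)
  refine LinearMap.ext fun v => ?_
  obtain ⟨v', rfl⟩ := β.surjective v
  rw [show β v' = v' • w by rw [← map_smul, smul_eq_mul, mul_one], map_smul, ← hc, hc0]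
  simp

include hL in
/-- A split regular section is an isomorphism. -/
theorem isIso_of_retraction (r : L ⟶ Coh.structureModule X) (h : s ≫ r = 𝟙 _) : IsIso s := by
  refine (StalkModule.isIso_iff_stalkMapₗ_bijective s).2 fun x => ?_
  have hs := (StalkModule.mono_iff_stalkMapₗ_injective s).mp inferInstance x
  refine ⟨hs, fun v => ?_⟩
  have hb := bijective_unit_stalk x
  set u : (Coh.structureModule X).presheaf.stalk x :=
    (Coh.structureModule X).presheaf.germ ⊤ x trivial (one X ⊤)
  obtain ⟨U, hx, e, β, -, -⟩ := Curves.MonoSection.exists_gen_stalk hL x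
  let w := β 1
  obtain ⟨b, hbw⟩ : ∃ b, b • w = StalkModule.stalkMapₗ s x u := ⟨β.symm (StalkModule.stalkMapₗ s x u), by
    rw [← map_smul, smul_eq_mul, mul_one, LinearEquiv.apply_symm_apply]⟩
  obtain ⟨c, hc⟩ := hb.2 (StalkModule.stalkMapₗ r x w)
  have h0 : StalkModule.stalkMapₗ r x (StalkModule.stalkMapₗ s x u) = u := by
    rw [← LinearMap.comp_apply, ← StalkModule.stalkMapₗ_comp, h, StalkModule.stalkMapₗ_id]
    rfl
  have hbc : (b * c) • u = (1 : X.presheaf.stalk x) • u := by
    rw [one_smul, mul_smul]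
    refine (congrArg (b • ·) hc).trans ?_
    rw [← map_smul, hbw, h0]
  have h1 : b * c = 1 := hb.1 hbc
  refine ⟨((β.symm v) * c) • u, ?_⟩
  rw [map_smul, ← hbw, smul_smul, mul_assoc, mul_comm c b, h1, mul_one, ← map_smul, smul_eq_mul,
    mul_one, LinearEquiv.apply_symm_apply]

omit [Mono s] in
theorem deg_eq_zero_of_iso (k : Type u) [Field k] [X.Over (Spec (CommRingCat.of k))]
    (e : Coh.structureModule X ≅ L) : Curv2.deg k X L 1 = 0 := by
  have h : Curv2.euler k X L = Curv2.euler k X (Coh.structureModule X) := by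
    unfold Curv2.euler
    exact finsum_congr fun i => by rw [(Curves.LES.isoK k e i).finrank_eq]
  unfold Curv2.deg
  rw [h, Nat.cast_one, one_mul, sub_self]

end Groth.Agent.H56.CurveDual.Line
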