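import Groth.Agent.H56.CurveDual.Duality
import Groth.Agent.H56.CurveDual.Line

/-!
# `dim H¹(ω) ≤ 1`
-/

set_option autoImplicit false
set_option linter.style.haveILetI false
set_option linter.unusedSectionVars false
set_option maxHeartbeats 400000

universe u

open CategoryTheory CategoryTheory.Limits AlgebraicGeometry TopologicalSpace DerivedCategory Opposite

attribute [local instance] HasDerivedCategory.standard
attribute [local instance] Groth.Agent.Lib.DerivedOX.LeftExists.hasLpull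

namespace Groth.Agent.H56.CurveDual.DimOne

open Groth.Agent.Lib Groth.Agent.Lib.DerivedOX Groth.Agent.H56.CurveDual.Point
open Groth.Agent.H56.CurveDual.Duality

variable {k : Type u} [Field k] (X : Scheme.{u}) [X.Over (Spec (CommRingCat.of k))]

/-- Endomorphisms of `O` are scalars when `H⁰(O) = k`. -/
theorem exists_smul_id (hk : IsIso (X ↘ Spec (CommRingCat.of k)).appTop)
    (e : Coh.structureModule X ⟶ Coh.structureModule X) :
    ∃ r : k, r • 𝟙 (Coh.structureModule X) = e := by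
  obtain ⟨b, hb⟩ := (ConcreteCategory.bijective_of_isIso (X ↘ Spec (CommRingCat.of k)).appTop).2
    (show Γ(X, ⊤) from e.app ⊤ (Lib.TensorMod.Gen.one X ⊤))
  let r : k := (Scheme.ΓSpecIso (CommRingCat.of k)).hom.hom b
  refine ⟨r, sub_eq_zero.1 (Line.eq_zero_of_app_one _ ?_)⟩
  have h1 : (r • 𝟙 (Coh.structureModule X)).app ⊤ (Lib.TensorMod.Gen.one X ⊤) =
      e.app ⊤ (Lib.TensorMod.Gen.one X ⊤) := by
    rw [KLin.smul_app_apply]
    have hr : Coh.toGlobal (X ↘ Spec (CommRingCat.of k)) r = (show Γ(X, ⊤) from e.app ⊤ (Lib.TensorMod.Gen.one X ⊤)) := by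
      rw [← hb]
      exact congrArg (X ↘ Spec (CommRingCat.of k)).appTop.hom
        (congrArg (fun t => t.hom b) (Scheme.ΓSpecIso (CommRingCat.of k)).hom_inv_id)
    rw [hr]
    have hid : X.presheaf.map (homOfLE (le_top : (⊤ : X.Opens) ≤ ⊤)).op = 𝟙 _ :=
      (congrArg _ (Subsingleton.elim _ (𝟙 _))).trans (X.presheaf.map_id _)
    refine (congrArg (fun t => (t.hom (show Γ(X, ⊤) from e.app ⊤ (Lib.TensorMod.Gen.one X ⊤))) •
      (Lib.TensorMod.Gen.one X ⊤)) hid).trans ?_
    exact mul_one (show Γ(X, ⊤) from e.app ⊤ (Lib.TensorMod.Gen.one X ⊤))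
  rw [Scheme.Modules.Hom.sub_app]
  exact sub_eq_zero.2 h1

variable [IsProper (X ↘ Spec (CommRingCat.of k))] (hX : topologicalKrullDim X ≤ (1 : ℕ))
  [DCoh.HasRpush (X ↘ Spec (CommRingCat.of k))]
  (hf : DCoh.RpushPreservesQCoh (X ↘ Spec (CommRingCat.of k)))
  (a : DCoh.DQCoh (pt k) ⥤ DCoh.DQCoh X) (adj : DCoh.RpushQ (X ↘ Spec (CommRingCat.of k)) hf ⊣ a)
  (O : DCoh.DQCoh (pt k)) (eO : O.obj ≅ DCoh.inD (pt k) (Coh.structureModule (pt k)))

local notation "p" => (X ↘ Spec (CommRingCat.of k))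

include hX hf adj eO in
/-- `H¹(ω)` is at most one-dimensional. -/
theorem finrank_le_one (hk : IsIso (p).appTop) :
    Module.finrank k (Coh.HH X (om a O) 1) ≤ 1 ∧ Module.Finite k (Coh.HH X (om a O) 1) := by
  obtain ⟨ι, hι⟩ := exists_ι p hX hf a adj O eO
  haveI := hι
  have hωq : Coh.IsQCoh (om a O) := (a.obj O).property (-1)
  have hω : DCoh.IsQCohD (sg (om a O)) := isQCohD_sg _ hωq
  haveI := mono_tr_ι p hX hf a adj O eO ι hk hω
  let D := PullPushAdj.derivedAdjunction p
  let OS := Coh.structureModule (pt k)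
  have hZ : ((DCoh.Rpush p).obj (sg (om a O))).IsLE 0 := isLE_Rpush_sg p hX (om a O) hωq
  let Ψ : (DCoh.inD X (Coh.structureModule X) ⟶ sg (om a O)) → (DCoh.inD (pt k) OS ⟶ DCoh.inD (pt k) OS) :=
    fun w => D.homEquiv _ _ ((lpullO p).hom ≫ w) ≫ tr p hf a adj O eO hω ι
  have hΨ0 : ∀ w, Ψ w = 0 → w = 0 := fun w hw => by
    have h1 : D.homEquiv _ _ ((lpullO p).hom ≫ w) = 0 := by
      refine Heart.eq_zero_of_projective_of_homology hZ _ ((cancel_mono ((homologyFunctor (pt k).Modules 0).map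
        (tr p hf a adj O eO hω ι))).1 ?_)
      rw [← Functor.map_comp, zero_comp]
      exact (congrArg _ hw).trans (Functor.map_zero _ _ _)
    have h2 : (lpullO p).hom ≫ w = 0 := by
      refine (D.homEquiv _ _).injective (h1.trans ?_)
      rw [Adjunction.homEquiv_unit, Functor.map_zero, comp_zero]
    exact (cancel_epi (lpullO p).hom).1 (h2.trans comp_zero.symm)
  have hΨadd : ∀ w w', Ψ (w - w') = Ψ w - Ψ w' := fun w w' => by
    simp only [Ψ, Preadditive.comp_sub, Adjunction.homEquiv_unit, Functor.map_sub, Preadditive.sub_comp]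
  let e : sg (om a O) ≅ ((singleFunctor X.Modules 0).obj (om a O))⟦(1 : ℤ)⟧ :=
    (((DerivedCategory.singleFunctors X.Modules).shiftIso 1 (-1) 0 (by lia)).app (om a O)).symm
  have key : ∀ x y : Abelian.Ext.{u} (Coh.structureModule X) (om a O) 1, x ≠ 0 → ∃ r : k, r • x = y := by
    intro x y hx
    let W : Abelian.Ext.{u} (Coh.structureModule X) (om a O) 1 → (DCoh.inD X (Coh.structureModule X) ⟶ sg (om a O)) :=
      fun z => (show DCoh.inD X (Coh.structureModule X) ⟶ _ from z.hom) ≫ e.inv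
    have hWi : ∀ z z', W z = W z' → z = z' := fun z z' hz =>
      Abelian.Ext.homEquiv.injective ((cancel_mono e.inv).1 hz)
    have hW0 : W 0 = 0 := by
      have h0 : (Abelian.Ext.homAddEquiv (0 : Abelian.Ext.{u} (Coh.structureModule X) (om a O) 1)) = 0 := map_zero _
      exact (congrArg (· ≫ e.inv) h0).trans zero_comp
    have hW : ∀ z, W z = 0 → z = 0 := fun z hz => hWi z 0 (hz.trans hW0.symm)
    obtain ⟨c₁, hc₁⟩ := (singleFunctor (pt k).Modules 0).map_surjective (Ψ (W x))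
    obtain ⟨c₂, hc₂⟩ := (singleFunctor (pt k).Modules 0).map_surjective (Ψ (W y))
    haveI : IsIso c₁ := Point.isIso_of_ne_zero c₁ fun h => hx (hW x (hΨ0 _ (by rw [← hc₁, h, Functor.map_zero])))
    let c : OS ⟶ OS := c₂ ≫ CategoryTheory.inv c₁
    obtain ⟨e₀, he₀⟩ := (singleFunctor X.Modules 0).map_surjective
      ((lpullO p).inv ≫ (DCoh.Lpull p).map ((singleFunctor (pt k).Modules 0).map c) ≫ (lpullO p).hom)
    obtain ⟨r, hr⟩ := exists_smul_id X hk e₀
    have hΨc : Ψ ((singleFunctor X.Modules 0).map e₀ ≫ W x) = Ψ (W y) := by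
      have h1 : (lpullO p).hom ≫ (singleFunctor X.Modules 0).map e₀ ≫ W x =
          (DCoh.Lpull p).map ((singleFunctor (pt k).Modules 0).map c) ≫ (lpullO p).hom ≫ W x := by
        rw [he₀]
        simp
      change D.homEquiv _ _ _ ≫ _ = _
      rw [h1, Adjunction.homEquiv_naturality_left, Category.assoc]
      change (singleFunctor (pt k).Modules 0).map c ≫ Ψ (W x) = _
      rw [← hc₁, ← hc₂, ← Functor.map_comp]
      simp [c]
    refine ⟨r, hWi _ _ ?_⟩
    have h2 : W (r • x) = (singleFunctor X.Modules 0).map e₀ ≫ W x := by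
      have h3 : r • x = (Abelian.Ext.mk₀ e₀).comp x (zero_add 1) := by
        rw [← hr, Abelian.Ext.mk₀_smul, Abelian.Ext.smul_comp, Abelian.Ext.mk₀_id_comp]
      simp only [W, h3, Abelian.Ext.comp_hom,
        Abelian.Ext.mk₀_hom, ShiftedHom.mk₀_comp, Category.assoc]
    rw [h2]
    exact sub_eq_zero.1 (hΨ0 _ (by rw [hΨadd, hΨc, sub_self]))
  let L := ExtHH.Basic.extUnitEquiv k (om a O) 1
  by_cases h0 : ∀ x : Abelian.Ext.{u} (Coh.structureModule X) (om a O) 1, x = 0
  · haveI : Subsingleton (Coh.HH X (om a O) 1) :=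
      @Equiv.subsingleton _ _ L.symm.toEquiv ⟨fun u v => (h0 u).trans (h0 v).symm⟩
    exact ⟨le_of_eq_of_le Module.finrank_zero_of_subsingleton zero_le_one, inferInstance⟩
  · push Not at h0
    obtain ⟨x, hx⟩ := h0
    have hspan : ∀ v : Coh.HH X (om a O) 1, ∃ r : k, r • L x = v := fun v => by
      obtain ⟨r, hr⟩ := key x (L.symm v) hx
      exact ⟨r, by rw [← map_smul, hr, LinearEquiv.apply_symm_apply]⟩
    exact ⟨_root_.finrank_le_one (L x) hspan,
      ⟨⟨{L x}, eq_top_iff.2 fun v _ => by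
        obtain ⟨r, rfl⟩ := hspan v
        exact Submodule.smul_mem _ r (Submodule.subset_span (by simp))⟩⟩⟩

end Groth.Agent.H56.CurveDual.DimOne
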