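import Groth.Agent.Lib.Modules.Stalk
import Groth.Agent.Lib.DerivedOX.RpushQCoh
import Mathlib.AlgebraicGeometry.Modules.Tilde
import Mathlib.RingTheory.SimpleModule.InjectiveProjective

/-!
# Modules on the spectrum of a field
-/

set_option autoImplicit false
set_option linter.style.haveILetI false
set_option linter.unusedSectionVars false

universe u

open CategoryTheory CategoryTheory.Limits AlgebraicGeometry Opposite TopologicalSpace

attribute [local instance] HasDerivedCategory.standard

namespace Groth.Agent.H56.CurveDual.Point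

set_option maxHeartbeats 60000

open Groth.Agent.Lib

/-- The spectrum of a field. -/
noncomputable abbrev pt (k : Type u) [Field k] : Scheme.{u} := Spec (CommRingCat.of k)

variable {k : Type u} [Field k]

theorem opens_eq (V : (pt k).Opens) : V = ⊥ ∨ V = ⊤ := by
  haveI : Subsingleton (pt k) := inferInstanceAs (Subsingleton (PrimeSpectrum k))
  by_cases h : (V : Set (pt k)).Nonempty
  · exact Or.inr (SetLike.coe_injective (Subsingleton.eq_univ_of_nonempty h))
  · exact Or.inl (SetLike.coe_injective ((Set.not_nonempty_iff_eq_empty.1 h).trans rfl))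

theorem subsingleton_bot (M : (pt k).Modules) : Subsingleton Γ(M, (⊥ : (pt k).Opens)) :=
  Module.subsingleton Γ(pt k, (⊥ : (pt k).Opens)) Γ(M, (⊥ : (pt k).Opens))

/-- A map of modules on the point is an isomorphism once bijective on global sections. -/
theorem isIso_of_top {M N : (pt k).Modules} (f : M ⟶ N) (h : Function.Bijective (f.app ⊤)) :
    IsIso f := by
  refine (Modules.Stalk.isIso_iff_app_bijective f).2 fun V => ?_
  rcases opens_eq V with rfl | rfl
  · haveI := subsingleton_bot M
    haveI := subsingleton_bot N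
    exact ⟨fun _ _ _ => Subsingleton.elim _ _, fun y => ⟨0, Subsingleton.elim _ _⟩⟩
  · exact h

theorem bijective_fromTilde_top {R : CommRingCat.{u}} (M : (Spec R).Modules) :
    Function.Bijective (M.fromTildeΓ.app ⊤) := by
  have h := Scheme.Modules.toOpen_fromTildeΓ_app M ⊤
  have h1 : (modulesSpecToSheaf.obj M).1.map (homOfLE (le_top : (⊤ : (Spec R).Opens) ≤ ⊤)).op = 𝟙 _ :=
    (congrArg _ (Subsingleton.elim _ (𝟙 _))).trans ((modulesSpecToSheaf.obj M).1.map_id _)
  rw [h1] at h
  haveI : IsIso (tilde.toOpen ((modulesSpecToSheaf.obj M).presheaf.obj (op ⊤)) ⊤) :=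
    tilde.isIso_toOpen_top
  haveI := IsIso.of_isIso_fac_left h
  exact ConcreteCategory.bijective_of_isIso ((modulesSpecToSheaf.map M.fromTildeΓ).1.app (op ⊤))

theorem isIso_fromTilde (M : (pt k).Modules) :
    IsIso (Scheme.Modules.fromTildeΓ (R := CommRingCat.of k) M) :=
  isIso_of_top _ (bijective_fromTilde_top (R := CommRingCat.of k) M)

instance essSurj_tilde : (tilde.functor (CommRingCat.of k)).EssSurj where
  mem_essImage M :=
    ⟨_, ⟨@asIso _ _ _ _ (Scheme.Modules.fromTildeΓ (R := CommRingCat.of k) M) (isIso_fromTilde M)⟩⟩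

instance isEquivalence_tilde : (tilde.functor (CommRingCat.of k)).IsEquivalence :=
  { faithful := (tilde.fullyFaithfulFunctor (R := CommRingCat.of k)).faithful
    full := (tilde.fullyFaithfulFunctor (R := CommRingCat.of k)).full
    essSurj := essSurj_tilde }

instance injective (M : (pt k).Modules) : Injective M := by
  let e := (tilde.functor (CommRingCat.of k)).asEquivalence
  haveI : Injective (e.inverse.obj M) := by
    refine (Module.injective_iff_injective_object k (e.inverse.obj M)).1 ?_
    exact Module.injective_of_isSemisimpleRing k _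
  exact (e.symm.map_injective_iff M).1 this

instance projective (M : (pt k).Modules) : Projective M := by
  let e := (tilde.functor (CommRingCat.of k)).asEquivalence
  haveI : Projective (e.inverse.obj M) := by
    refine (IsProjective.iff_projective _).1 ?_
    infer_instance
  exact (e.symm.map_projective_iff M).1 this

theorem exists_tilde_iso (M : (pt k).Modules) :
    ∃ N : ModuleCat.{u} (CommRingCat.of k), Nonempty (tilde N ≅ M) :=
  ⟨_, ⟨@asIso _ _ _ _ (Scheme.Modules.fromTildeΓ (R := CommRingCat.of k) M) (isIso_fromTilde M)⟩⟩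

/-- `R~ = O`. -/
noncomputable def selfIso (R : CommRingCat.{u}) :
    tilde (ModuleCat.of R R) ≅ Coh.structureModule (Spec R) := tildeSelf

theorem ne_zero_to {R : CommRingCat.{u}} {N : ModuleCat.{u} R} {M : (Spec R).Modules}
    (e : tilde N ≅ M) (g : N ⟶ ModuleCat.of R R) (hg : g ≠ 0) :
    e.inv ≫ tilde.map g ≫ (selfIso R).hom ≠ 0 := fun h => hg <| by
  have h2 : tilde.map g = 0 := (cancel_mono (selfIso R).hom).1
    (((cancel_epi e.inv).1 (h.trans comp_zero.symm)).trans zero_comp.symm)
  exact tilde.fullyFaithfulFunctor.map_injective (h2.trans tilde.map_zero.symm)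

theorem ne_zero_from {R : CommRingCat.{u}} {N : ModuleCat.{u} R} {M : (Spec R).Modules}
    (e : tilde N ≅ M) (g : ModuleCat.of R R ⟶ N) (hg : g ≠ 0) :
    (selfIso R).inv ≫ tilde.map g ≫ e.hom ≠ 0 := fun h => hg <| by
  have h2 : tilde.map g = 0 := (cancel_mono e.hom).1
    (((cancel_epi (selfIso R).inv).1 (h.trans comp_zero.symm)).trans zero_comp.symm)
  exact tilde.fullyFaithfulFunctor.map_injective (h2.trans tilde.map_zero.symm)

theorem exists_vec (M : (pt k).Modules) (hM : ¬ IsZero M) {N : ModuleCat.{u} (CommRingCat.of k)}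
    (e : tilde N ≅ M) : ∃ v : N, v ≠ 0 := by
  by_contra hh
  push Not at hh
  haveI : Subsingleton N := ⟨fun a b => (hh a).trans (hh b).symm⟩
  exact hM (IsZero.of_iso ((tilde.functor (CommRingCat.of k)).map_isZero
    (ModuleCat.isZero_of_subsingleton N)) e.symm)

theorem exists_functional {K : Type u} [Field K] {N : ModuleCat.{u} K} {v : N} (hv : v ≠ 0) :
    ∃ g : N ⟶ ModuleCat.of K K, g ≠ 0 := by
  by_contra hh
  push Not at hh
  exact hv ((Module.forall_dual_apply_eq_zero_iff K v).1 fun l =>
    congrArg (fun g => g.hom v) (hh (ModuleCat.ofHom l)))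

/-- Every nonzero module maps nontrivially to `O`. -/
theorem exists_ne_zero (M : (pt k).Modules) (hM : ¬ IsZero M) :
    ∃ α : M ⟶ Coh.structureModule (pt k), α ≠ 0 := by
  obtain ⟨N, ⟨e⟩⟩ := exists_tilde_iso M
  obtain ⟨v, hv⟩ := exists_vec M hM e
  obtain ⟨g, hg⟩ := exists_functional hv
  exact ⟨_, ne_zero_to (R := CommRingCat.of k) e g hg⟩

theorem exists_vector_map {N : ModuleCat.{u} (CommRingCat.of k)} {v : N} (hv : v ≠ 0) :
    ∃ g : ModuleCat.of (CommRingCat.of k) (CommRingCat.of k) ⟶ N, g ≠ 0 :=
  ⟨ModuleCat.ofHom (LinearMap.toSpanSingleton (CommRingCat.of k) N v), fun h => hv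
    ((LinearMap.toSpanSingleton_apply_one (CommRingCat.of k) N v).symm.trans
      (congrArg (fun g => g.hom 1) h))⟩

/-- Every nonzero module receives a nonzero map from `O`. -/
theorem exists_ne_zero_from (M : (pt k).Modules) (hM : ¬ IsZero M) :
    ∃ α : Coh.structureModule (pt k) ⟶ M, α ≠ 0 := by
  obtain ⟨N, ⟨e⟩⟩ := exists_tilde_iso M
  obtain ⟨v, hv⟩ := exists_vec M hM e
  obtain ⟨g, hg⟩ := exists_vector_map hv
  exact ⟨_, ne_zero_from (R := CommRingCat.of k) e g hg⟩

/-- A nonzero endomorphism of `O` is invertible. -/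
theorem isIso_of_ne_zero (c : Coh.structureModule (pt k) ⟶ Coh.structureModule (pt k)) (hc : c ≠ 0) :
    IsIso c := by
  obtain ⟨g, hg⟩ := (tilde.functor (CommRingCat.of k)).map_surjective
    (X := ModuleCat.of k k) (Y := ModuleCat.of k k) ((tildeSelf).hom ≫ c ≫ (tildeSelf).inv)
  have hg0 : g.hom 1 ≠ 0 := fun h => hc <| by
    have hz : g = 0 := ModuleCat.hom_ext (LinearMap.ext_ring h)
    rw [hz, Functor.map_zero] at hg
    have := congrArg (fun t => (tildeSelf (R := CommRingCat.of k)).inv ≫ t ≫ (tildeSelf).hom) hg.symm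
    simp at this
    exact this
  haveI : IsIso g := (ConcreteCategory.isIso_iff_bijective g).2
    ⟨fun a b hab => ?_, fun b => ⟨b * (g.hom 1)⁻¹, ?_⟩⟩
  · haveI h1 : IsIso ((tilde.functor (CommRingCat.of k)).map g) := Functor.map_isIso _ g
    haveI h2 : IsIso ((tildeSelf (R := CommRingCat.of k)).hom ≫ c ≫ (tildeSelf).inv) := hg ▸ h1
    exact (isIso_comp_right_iff c _).1 ((isIso_comp_left_iff _ _).1 h2)
  · have h1 : ∀ a : k, g.hom a = a * g.hom 1 := fun a => by
      simpa using g.hom.map_smul a (1 : k)
    exact mul_right_cancel₀ hg0 ((h1 a).symm.trans (hab.trans (h1 b)))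
  · have h1 := g.hom.map_smul (b * (g.hom 1)⁻¹) (1 : k)
    simp only [smul_eq_mul, mul_one] at h1
    exact h1.trans (by field_simp)

end Groth.Agent.H56.CurveDual.Point
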