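import Groth.Agent.H56.CurveDual.Main
import Groth.Agent.H56.CurveDual.Point
import Groth.Agent.H56.CurveDual.Heart
import Groth.Agent.Lib.DerivedOX.PullPushAdj
import Groth.Agent.Lib.DerivedOX.SplitFibre
import Groth.Agent.Lib.DerivedOX.BCFlat
import Groth.Agent.Lib.ExtHH.Basic
import Groth.Agent.Lib.ZarCoh.Compare
import Groth.Agent.H34.HOne

/-!
# Duality in degree one for proper curves

For `f : X ⟶ Spec k` proper with `dim X ≤ 1`, `a ⊣ Rf_*` and `ω = H^{-1}(a O)`: a coherent (indeed
quasi-coherent) `F` has `H¹(F) = 0` iff `Hom(F, ω) = 0`; if `H⁰(O_X) = k`, nonzero endomorphisms of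
`ω` are invertible.
-/

set_option autoImplicit false
set_option linter.style.haveILetI false
set_option linter.unusedSectionVars false
set_option maxHeartbeats 1000000

universe u

open CategoryTheory CategoryTheory.Limits AlgebraicGeometry TopologicalSpace DerivedCategory Opposite

attribute [local instance] HasDerivedCategory.standard
attribute [local instance] Groth.Agent.Lib.DerivedOX.LeftExists.hasLpull

namespace Groth.Agent.H56.CurveDual.Duality

open Groth.Agent.Lib Groth.Agent.Lib.DerivedOX Groth.Agent.H56.CurveDual.Point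
open Groth.Agent.Lib.WayOut.Scheme Groth.Agent.Lib.WayOut.Bounded Groth.Agent.Lib.DerivedOX.RpushQCoh
open Groth.Agent.Lib.WayOut.Holim

variable {k : Type u} [Field k] {X : Scheme.{u}}

/-- `F` in degree `-1`. -/
noncomputable abbrev sg (F : X.Modules) : DCoh.D X := (singleFunctor X.Modules (-1)).obj F

theorem isQCohD_sg (F : X.Modules) (hF : Coh.IsQCoh F) : DCoh.IsQCohD (sg F) := fun i => by
  by_cases hi : i = -1
  · subst hi
    exact (qc X).prop_of_iso ((singleFunctorCompHomologyFunctorIso X.Modules (-1)).app F).symm hF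
  · rcases lt_or_gt_of_ne hi with h | h
    · exact qc_of_isZero (DerivedCategory.isZero_of_isGE _ (-1) i h)
    · exact qc_of_isZero (DerivedCategory.isZero_of_isLE _ (-1) i h)

variable (f : X ⟶ pt k) [IsProper f] (hX : topologicalKrullDim X ≤ (1 : ℕ))
  [DCoh.HasRpush f] (hf : DCoh.RpushPreservesQCoh f)
  (a : DCoh.DQCoh (pt k) ⥤ DCoh.DQCoh X) (adj : DCoh.RpushQ f hf ⊣ a)
  (O : DCoh.DQCoh (pt k)) (eO : O.obj ≅ DCoh.inD (pt k) (Coh.structureModule (pt k)))

include f hX in
theorem subsingleton_HU_curve (M : X.Modules) (U : X.Opens) (p : ℕ) (hp : 1 < p) :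
    Subsingleton (CohTop.HU (Coh.toAb M) p U) := by
  haveI := LocallyOfFiniteType.isLocallyNoetherian f
  haveI : CompactSpace X := QuasiCompact.compactSpace_of_compactSpace f
  haveI : IsNoetherian X := ⟨⟩
  exact subsingleton_HU_of_support (N := 1) hX M isClosed_univ (d := 1)
    ((Topology.IsInducing.subtypeVal.topologicalKrullDim_le).trans hX)
    (fun x hx => absurd (Set.mem_univ x) hx) U p hp

include hX in
theorem isLE_Rpush_sg (F : X.Modules) (hF : Coh.IsQCoh F) : ((DCoh.Rpush f).obj (sg F)).IsLE 0 :=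
  isLE_Rpush_of_van f 1 (fun M _ W _ p hp => subsingleton_HU_curve f hX M _ p (by lia)) (sg F) (-1)
    (isQCohD_sg F hF)

section Transpose

variable {A : DCoh.D X} (hA : DCoh.IsQCohD A)

/-- The transpose of a map to `a O`. -/
noncomputable def tr (u : A ⟶ (a.obj O).obj) :
    (DCoh.Rpush f).obj A ⟶ DCoh.inD (pt k) (Coh.structureModule (pt k)) :=
  ((adj.homEquiv ⟨A, hA⟩ O).symm (ObjectProperty.homMk u)).hom ≫ eO.hom

theorem tr_injective : Function.Injective (tr f hf a adj O eO hA) := fun u v h => by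
  have h1 := ObjectProperty.hom_ext _ ((cancel_mono eO.hom).1 h)
  exact congrArg (fun g => g.hom) ((adj.homEquiv ⟨A, hA⟩ O).symm.injective h1)

theorem tr_surjective : Function.Surjective (tr f hf a adj O eO hA) := fun w => by
  refine ⟨((adj.homEquiv ⟨A, hA⟩ O) (ObjectProperty.homMk (w ≫ eO.inv))).hom, ?_⟩
  have h1 : (adj.homEquiv ⟨A, hA⟩ O).symm (ObjectProperty.homMk
      ((adj.homEquiv ⟨A, hA⟩ O) (ObjectProperty.homMk (w ≫ eO.inv))).hom) =
      ObjectProperty.homMk (w ≫ eO.inv) := (adj.homEquiv ⟨A, hA⟩ O).symm_apply_apply _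
  unfold tr
  rw [h1]
  exact (Category.assoc _ _ _).trans ((congrArg (w ≫ ·) eO.inv_hom_id).trans (Category.comp_id _))

theorem tr_precomp {B : DCoh.D X} (hB : DCoh.IsQCohD B) (g : B ⟶ A) (u : A ⟶ (a.obj O).obj) :
    tr f hf a adj O eO hB (g ≫ u) = (DCoh.Rpush f).map g ≫ tr f hf a adj O eO hA u := by
  let g' : (⟨B, hB⟩ : DCoh.DQCoh X) ⟶ ⟨A, hA⟩ := ObjectProperty.homMk g
  have h := adj.homEquiv_naturality_left_symm g' (ObjectProperty.homMk u : (⟨A, hA⟩ : DCoh.DQCoh X) ⟶ a.obj O)
  exact ((congrArg (fun t => t.hom ≫ eO.hom) h).trans (Category.assoc _ _ _))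

theorem tr_zero : tr f hf a adj O eO hA 0 = 0 := by
  obtain ⟨u, hu⟩ := tr_surjective f hf a adj O eO hA 0
  have h := tr_precomp f hf a adj O eO hA hA (0 : A ⟶ A) u
  rw [zero_comp, hu, comp_zero] at h
  exact h

/-- An endomorphism of `O`. -/
noncomputable def endO (c : Coh.structureModule (pt k) ⟶ Coh.structureModule (pt k)) : O ⟶ O :=
  ObjectProperty.homMk (eO.hom ≫ (singleFunctor _ 0).map c ≫ eO.inv)

theorem tr_postcomp (c : Coh.structureModule (pt k) ⟶ Coh.structureModule (pt k))
    (u : A ⟶ (a.obj O).obj) :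
    tr f hf a adj O eO hA (u ≫ (a.map (endO O eO c)).hom) =
      tr f hf a adj O eO hA u ≫ (singleFunctor _ 0).map c := by
  have h := adj.homEquiv_naturality_right_symm
    (ObjectProperty.homMk u : (⟨A, hA⟩ : DCoh.DQCoh X) ⟶ a.obj O) (endO O eO c)
  refine (congrArg (fun t => t.hom ≫ eO.hom) h).trans ?_
  change (_ ≫ eO.hom ≫ (singleFunctor _ 0).map c ≫ eO.inv) ≫ eO.hom = (_ ≫ eO.hom) ≫ _
  simp only [Category.assoc, Iso.inv_hom_id, Category.comp_id]

end Transpose

include hX adj eO in
theorem isGE_shriek : (a.obj O).obj.IsGE (-1) := by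
  let K := (a.obj O).obj
  let A := (TStructure.t.truncLT (-1)).obj K
  have hA : DCoh.IsQCohD A := hasP_truncLT (P := qc X) (a.obj O).property (-1)
  haveI : A.IsLE (-2) := TStructure.t.isLE_truncLT_obj K (-1) (-2) (by lia)
  have hle : ((DCoh.Rpush f).obj A).IsLE (-1) := by
    simpa using isLE_Rpush_of_van f 1
      (fun M _ W _ p hp => subsingleton_HU_curve f hX M _ p (by lia)) A (-2) hA
  have hO : TStructure.t.IsGE (DCoh.inD (pt k) (Coh.structureModule (pt k))) 0 :=
    (inferInstance : ((singleFunctor (pt k).Modules 0).obj (Coh.structureModule (pt k))).IsGE 0)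
  have h0 : (TStructure.t.truncLTι (-1)).app K = 0 := by
    refine tr_injective f hf a adj O eO hA ?_
    rw [tr_zero]
    haveI : TStructure.t.IsLE ((DCoh.Rpush f).obj A) (-1) := hle
    exact TStructure.t.zero _ (-1) 0 (by lia)
  refine (DerivedCategory.isGE_iff K (-1)).2 fun i hi => ?_
  haveI := Heart.isIso_homologyMap_truncLTι K (-1) i hi
  have h5 : (homologyFunctor X.Modules i).map ((TStructure.t.truncLTι (-1)).app K) = 0 := by
    rw [h0, Functor.map_zero]
  exact IsZero.of_iso (IsZero.of_mono_eq_zero _ h5)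
    (asIso ((homologyFunctor X.Modules i).map ((TStructure.t.truncLTι (-1)).app K))).symm

/-- The dualizing module. -/
noncomputable abbrev om : X.Modules := DCoh.HD (a.obj O).obj (-1)

include hX adj eO in
theorem exists_ι : ∃ ι : sg (om a O) ⟶ (a.obj O).obj,
    IsIso ((homologyFunctor X.Modules (-1)).map ι) := by
  let K := (a.obj O).obj
  have hGE : TStructure.t.IsGE K (-1) := isGE_shriek f hX hf a adj O eO
  let T := (TStructure.t.truncLT 0).obj K
  haveI hT1 : T.IsGE (-1) := (inferInstance : TStructure.t.IsGE T (-1))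
  haveI hT2 : T.IsLE (-1) := TStructure.t.isLE_truncLT_obj K 0 (-1) (by lia)
  obtain ⟨N, ⟨e⟩⟩ := exists_iso_singleFunctor_obj_of_isGE_of_isLE T (-1)
  haveI := Heart.isIso_homologyMap_truncLTι K 0 (-1) (by lia)
  let eN : N ≅ om a O := ((singleFunctorCompHomologyFunctorIso X.Modules (-1)).app N).symm ≪≫
    (homologyFunctor X.Modules (-1)).mapIso e.symm ≪≫
    asIso ((homologyFunctor X.Modules (-1)).map ((TStructure.t.truncLTι 0).app K))
  refine ⟨(singleFunctor X.Modules (-1)).map eN.inv ≫ e.inv ≫ (TStructure.t.truncLTι 0).app K, ?_⟩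
  rw [Functor.map_comp, Functor.map_comp]
  infer_instance

variable (ι : sg (om a O) ⟶ (a.obj O).obj) [IsIso ((homologyFunctor X.Modules (-1)).map ι)]

/-- The comparison `ω ≅ H^{-1}`. -/
noncomputable def jι : om a O ≅ om a O :=
  ((singleFunctorCompHomologyFunctorIso X.Modules (-1)).app (om a O)).symm ≪≫
    asIso ((homologyFunctor X.Modules (-1)).map ι)

theorem map_sg_comp {F : X.Modules} (g : F ⟶ om a O) :
    (homologyFunctor X.Modules (-1)).map ((singleFunctor X.Modules (-1)).map g ≫ ι) =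
      (singleFunctorCompHomologyFunctorIso X.Modules (-1)).hom.app F ≫ g ≫ (jι a O ι).hom := by
  have hn := (singleFunctorCompHomologyFunctorIso X.Modules (-1)).hom.naturality g
  simp only [Functor.comp_map, Functor.id_map] at hn
  rw [← Category.assoc, ← hn, Functor.map_comp]
  simp [jι]

include hX adj eO in
theorem exists_eq_sg {F : X.Modules} (u : sg F ⟶ (a.obj O).obj) :
    ∃ g : F ⟶ om a O, u = (singleFunctor X.Modules (-1)).map g ≫ ι := by
  let g : F ⟶ om a O := (singleFunctorCompHomologyFunctorIso X.Modules (-1)).inv.app F ≫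
    (homologyFunctor X.Modules (-1)).map u ≫ (jι a O ι).inv
  refine ⟨g, sub_eq_zero.1 (Heart.eq_zero_from_single (-1) (isGE_shriek f hX hf a adj O eO) _ ?_)⟩
  rw [Functor.map_sub, map_sg_comp]
  simp [g]

theorem sg_comp_eq_zero {F : X.Modules} (g : F ⟶ om a O)
    (h : (singleFunctor X.Modules (-1)).map g ≫ ι = 0) : g = 0 := by
  have h1 := map_sg_comp a O ι g
  rw [h, Functor.map_zero] at h1
  exact (cancel_mono (jι a O ι).hom).1 (((cancel_epi ((singleFunctorCompHomologyFunctorIso X.Modules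
    (-1)).hom.app F)).1 (h1.symm.trans comp_zero.symm)).trans zero_comp.symm)

/-- `Lf^* O = O`. -/
noncomputable def lpullO : (DCoh.Lpull f).obj (DCoh.inD (pt k) (Coh.structureModule (pt k))) ≅
    DCoh.inD X (Coh.structureModule X) :=
  (DCoh.Lpull f).mapIso (SplitFibre.oneIso (pt k)).symm ≪≫ SplitFibre.lpullOne f ≪≫ SplitFibre.oneIso X

include hX hf adj eO in
/-- If `H¹(F) ≠ 0` then `F` maps nontrivially to `ω`. -/
theorem subsingleton_HH_one (F : X.Modules) (hF : Coh.IsQCoh F)
    (h : ∀ g : F ⟶ om a O, g = 0) : Subsingleton (Coh.HH X F 1) := by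
  obtain ⟨ι, hι⟩ := exists_ι f hX hf a adj O eO
  haveI := hι
  let Z := (DCoh.Rpush f).obj (sg F)
  have hZ : Z.IsLE 0 := isLE_Rpush_sg f hX F hF
  have hT : IsZero (DCoh.HD Z 0) := by
    by_contra hne
    obtain ⟨α, hα⟩ := exists_ne_zero _ hne
    obtain ⟨w, hw⟩ := Heart.exists_to_single 0 hZ α
    obtain ⟨u, hu⟩ := tr_surjective f hf a adj O eO (isQCohD_sg F hF) w
    obtain ⟨g, hg⟩ := exists_eq_sg f hX hf a adj O eO ι u
    rw [h g, Functor.map_zero, zero_comp] at hg
    rw [hg, tr_zero] at hu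
    rw [← hu, Functor.map_zero] at hw
    exact hα ((cancel_mono ((singleFunctorCompHomologyFunctorIso (pt k).Modules 0).inv.app _)).1
      (hw.symm.trans zero_comp.symm))
  have hZ' : Z.IsLE (-1) := (DerivedCategory.isLE_iff Z (-1)).2 fun i hi => by
    rcases eq_or_lt_of_le (show (0 : ℤ) ≤ i by lia) with rfl | h1
    · exact hT
    · exact DerivedCategory.isZero_of_isLE Z 0 i h1
  have hhom : ∀ w : DCoh.inD X (Coh.structureModule X) ⟶ sg F, w = 0 := fun w => by
    have h1 : (PullPushAdj.derivedAdjunction f).homEquiv _ _ ((lpullO f).hom ≫ w) = 0 :=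
      Heart.eq_zero_of_projective hZ' _
    have h2 : (lpullO f).hom ≫ w = 0 := by
      refine ((PullPushAdj.derivedAdjunction f).homEquiv _ _).injective (h1.trans ?_)
      rw [Adjunction.homEquiv_unit, Functor.map_zero, comp_zero]
    exact (cancel_epi (lpullO f).hom).1 (h2.trans comp_zero.symm)
  let e : sg F ≅ ((singleFunctor X.Modules 0).obj F)⟦(1 : ℤ)⟧ :=
    (((DerivedCategory.singleFunctors X.Modules).shiftIso 1 (-1) 0 (by lia)).app F).symm
  haveI : Subsingleton (Abelian.Ext.{u} (Coh.structureModule X) F 1) := by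
    refine ⟨fun x y => Abelian.Ext.homEquiv.injective ?_⟩
    have h1 : ∀ w : DCoh.inD X (Coh.structureModule X) ⟶ ((singleFunctor X.Modules 0).obj F)⟦(1 : ℤ)⟧,
        w = 0 := fun w => (cancel_mono e.inv).1 ((hhom _).trans zero_comp.symm)
    exact (h1 _).trans (h1 _).symm
  exact @Function.Surjective.subsingleton _ _ _ this
    (ExtHH.Basic.extHH_bijective (𝟭 X.Modules) (𝟙 (Coh.structureModule X))
    (fun _ => ⟨fun f g h => ((Category.id_comp f).symm.trans h).trans (Category.id_comp g),
      fun g => ⟨g, Category.id_comp g⟩⟩) (fun _ hI => hI) F 1).surjective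

include f hX in
theorem subsingleton_HH_of_isZero (N : X.Modules) (hN : IsZero N) :
    Subsingleton (Coh.HH X N 1) := by
  haveI := LocallyOfFiniteType.isLocallyNoetherian f
  haveI : CompactSpace X := QuasiCompact.compactSpace_of_compactSpace f
  haveI : IsNoetherian X := ⟨⟩
  have h0 := subsingleton_HU_of_support (N := 1) hX N isClosed_empty (d := 0)
    (topologicalKrullDim_le_zero_of_closedPoints isClosed_empty fun x hx => absurd hx (Set.notMem_empty x))
    (fun x _ => Modules.Stalk.isZero_iff_stalk_subsingleton.1 hN x) ⊤ 1 Nat.one_pos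
  exact @Equiv.subsingleton _ _ ((ZarCoh.Compare.hTop (Coh.toAb N) 1)).toEquiv h0

include hX hf adj eO in
/-- Modules without `H¹` do not map to `ω`. -/
theorem hom_eq_zero (F : X.Modules) (hF : Coh.IsQCoh F) (h1 : Subsingleton (Coh.HH X F 1))
    (g : F ⟶ om a O) : g = 0 := by
  obtain ⟨ι, hι⟩ := exists_ι f hX hf a adj O eO
  haveI := hι
  haveI := LocallyOfFiniteType.isLocallyNoetherian f
  haveI : CompactSpace X := QuasiCompact.compactSpace_of_compactSpace f
  haveI : IsNoetherian X := ⟨⟩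
  let C : ObjectProperty X.Modules := fun N => Subsingleton (Coh.HH X N 1)
  haveI : C.IsClosedUnderIsomorphisms := ⟨fun {N N'} e hN => H34.HOne.h1_of_iso e hN⟩
  have hC0 : ∀ N : X.Modules, IsZero N → C N := fun N hz =>
    subsingleton_HH_of_isZero f hX N hz
  haveI : C.ContainsZero := ⟨⟨_, isZero_zero X.Modules, hC0 _ (isZero_zero _)⟩⟩
  have hC : ∀ (N : X.Modules), C N → ∀ (W : (pt k).Opens), IsAffineOpen W →
      ∀ p : ℕ, 0 + 1 ≤ p → Subsingleton (CohTop.HU (Coh.toAb N) p (f ⁻¹ᵁ W)) := fun N hN W _ p hp => by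
    rcases (show p = 1 ∨ 1 < p by lia) with rfl | hp1
    · rcases opens_eq W with rfl | rfl
      · obtain ⟨e⟩ := ZarCoh.Morph.nonempty_HHon_equiv N (f ⁻¹ᵁ (⊥ : (pt k).Opens)) 1
        haveI : Subsingleton (Coh.HHon X N (f ⁻¹ᵁ (⊥ : (pt k).Opens)) 1) := by
          haveI : NoetherianSpace (f ⁻¹ᵁ (⊥ : (pt k).Opens) : Scheme.{u}) :=
            (f ⁻¹ᵁ (⊥ : (pt k).Opens)).ι.isOpenEmbedding.isInducing.noetherianSpace
          haveI : IsEmpty (∅ : Set (f ⁻¹ᵁ (⊥ : (pt k).Opens) : Scheme.{u})) := inferInstance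
          exact GrothVanSupport.H_subsingleton 1
            (((f ⁻¹ᵁ (⊥ : (pt k).Opens)).ι.isOpenEmbedding.isInducing.topologicalKrullDim_le).trans hX)
            isClosed_empty (d := 0) (topologicalKrullDim_le_zero_of_closedPoints isClosed_empty
              fun x hx => absurd hx (Set.notMem_empty x)) _ (fun x _ => absurd x.2 id) 1 Nat.one_pos
        exact e.symm.toEquiv.subsingleton
      · haveI : Subsingleton (CohTop.H (Coh.toAb N) 1) := hN
        exact (ZarCoh.Compare.hTop (Coh.toAb N) 1).symm.toEquiv.subsingleton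
    · exact subsingleton_HU_curve f hX N _ p hp1
  have hle : ((DCoh.Rpush f).obj (sg F)).IsLE (-1 + (0 : ℕ)) := by
    haveI h1 : (sg F).IsGE (-1) := inferInstance
    haveI h2 : (sg F).IsLE (-1) := inferInstance
    refine isLE_Rpush_of_bounded f 0 C hC _ (fun i => ?_) (-1) (-1)
    by_cases hi : i = -1
    · subst hi
      exact C.prop_of_iso ((singleFunctorCompHomologyFunctorIso X.Modules (-1)).app F).symm ‹_›
    · rcases lt_or_gt_of_ne hi with h | h
      · exact hC0 _ (DerivedCategory.isZero_of_isGE _ (-1) i h)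
      · exact hC0 _ (DerivedCategory.isZero_of_isLE _ (-1) i h)
  refine sg_comp_eq_zero a O ι g (tr_injective f hf a adj O eO (isQCohD_sg F hF) ?_)
  rw [tr_zero]
  haveI : TStructure.t.IsLE ((DCoh.Rpush f).obj (sg F)) (-1) := by simpa using hle
  haveI : TStructure.t.IsGE (DCoh.inD (pt k) (Coh.structureModule (pt k))) 0 :=
    (inferInstance : ((singleFunctor (pt k).Modules 0).obj (Coh.structureModule (pt k))).IsGE 0)
  exact TStructure.t.zero _ (-1) 0 (by lia)

include hX adj eO in
theorem eq_zero_of_comp_ι {A : DCoh.D X} (w : A ⟶ sg (om a O)) (hA : A.IsLE 0) (h : w ≫ ι = 0)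
    : w = 0 := by
  let K := (a.obj O).obj
  have hGE : TStructure.t.IsGE K (-1) := isGE_shriek f hX hf a adj O eO
  let T := (TStructure.t.truncLT 0).obj K
  haveI : TStructure.t.IsLE (sg (om a O)) (-1) := (inferInstance : (sg (om a O)).IsLE (-1))
  let ι' : sg (om a O) ⟶ T := TStructure.t.liftTruncLT ι (-1) 0 (by lia)
  have hι' : ι' ≫ (TStructure.t.truncLTι 0).app K = ι := TStructure.t.liftTruncLT_ι ι (-1) 0 (by lia)
  haveI hT1 : T.IsGE (-1) := (inferInstance : TStructure.t.IsGE T (-1))
  haveI hT2 : T.IsLE (-1) := TStructure.t.isLE_truncLT_obj K 0 (-1) (by lia)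
  haveI := Heart.isIso_homologyMap_truncLTι K 0 (-1) (by lia)
  haveI : IsIso ι' := by
    have h1 : IsIso ((homologyFunctor X.Modules (-1)).map ι') := by
      have h2 : IsIso ((homologyFunctor X.Modules (-1)).map ι' ≫
          (homologyFunctor X.Modules (-1)).map ((TStructure.t.truncLTι 0).app K)) := by
        rw [← Functor.map_comp, hι']
        infer_instance
      exact IsIso.of_isIso_comp_right _ ((homologyFunctor X.Modules (-1)).map ((TStructure.t.truncLTι 0).app K))
    refine (DerivedCategory.isIso_iff _ ι').2 fun i => ?_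
    by_cases hi : i = -1
    · subst hi; exact h1
    · rcases lt_or_gt_of_ne hi with hlt | hgt
      · exact ⟨0, (DerivedCategory.isZero_of_isGE _ (-1) i hlt).eq_of_src _ _,
            (DerivedCategory.isZero_of_isGE T (-1) i hlt).eq_of_src _ _⟩
      · exact ⟨0, (DerivedCategory.isZero_of_isLE _ (-1) i hgt).eq_of_src _ _,
            (DerivedCategory.isZero_of_isLE T (-1) i hgt).eq_of_src _ _⟩
  have h0 : (w ≫ ι') ≫ (TStructure.t.truncLTι 0).app K = 0 := by rw [Category.assoc, hι', h]
  obtain ⟨g, hg⟩ := Pretriangulated.Triangle.coyoneda_exact₂ _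
    (Pretriangulated.inv_rot_of_distTriang _ (TStructure.t.triangleLTGE_distinguished 0 K)) (w ≫ ι') h0
  have hg0 : g = 0 := by
    haveI : TStructure.t.IsLE A 0 := hA
    exact TStructure.t.zero_of_isLE_of_isGE g 0 1 (by lia) inferInstance
      (by exact TStructure.t.isGE_shift _ 0 (-1) 1 (by lia))
  rw [hg0, zero_comp] at hg
  exact (cancel_mono ι').1 (hg.trans zero_comp.symm)

include hX in
/-- The trace of `ω` is a monomorphism on `H⁰` of the direct image. -/
theorem mono_tr_ι (hk : IsIso f.appTop) (hω : DCoh.IsQCohD (sg (om a O))) :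
    Mono ((homologyFunctor (pt k).Modules 0).map (tr f hf a adj O eO hω ι)) := by
  haveI : Nonempty X := by
    by_contra hne
    haveI : IsEmpty X := not_nonempty_iff.1 hne
    haveI : Subsingleton Γ(X, ⊤) := inferInstance
    haveI := ((ConcreteCategory.bijective_of_isIso f.appTop).1.comp
      (ConcreteCategory.bijective_of_isIso (Scheme.ΓSpecIso (CommRingCat.of k)).inv).1).subsingleton
    exact false_of_nontrivial_of_subsingleton k
  let D := PullPushAdj.derivedAdjunction f
  let OS := Coh.structureModule (pt k)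
  let Z := (DCoh.Rpush f).obj (sg (om a O))
  have hZ : Z.IsLE 0 := isLE_Rpush_sg f hX (om a O) ((a.obj O).property (-1))
  let A₁ := DCoh.inD X (Coh.structureModule X)
  have hA₁ : DCoh.IsQCohD A₁ :=
    fun i => (qc X).prop_of_iso ((homologyFunctor X.Modules i).mapIso (SplitFibre.oneIso X))
      (SplitFibre.isQCohD_one X i)
  let η : DCoh.inD (pt k) OS ⟶ (DCoh.Rpush f).obj A₁ := D.homEquiv _ _ (lpullO f).hom
  have hA₁GE : A₁.IsGE 0 :=
    (inferInstance : ((singleFunctor X.Modules 0).obj (Coh.structureModule X)).IsGE 0)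
  have hRA₁ : ((DCoh.Rpush f).obj A₁).IsGE 0 := BCFlat.isGE_Rpush f A₁ 0 hA₁GE
  have hη : IsIso ((homologyFunctor (pt k).Modules 0).map η) := by
    obtain ⟨b₁⟩ := ExchangeFP29.LocusD.nonempty_HD_iso f (Coh.structureModule X) 0
    obtain ⟨b₂⟩ := ExchangeFP29.Main.nonempty_zeroIso f (Coh.structureModule X)
    obtain ⟨b₃⟩ := SplitFibre.nonempty_push_one f hk
    refine SplitFibre.isIso_of_ne_zero ((singleFunctorCompHomologyFunctorIso _ 0).app OS)
      (b₁ ≪≫ b₂ ≪≫ b₃) _ fun h0 => ?_
    have h1 : η = 0 := Heart.eq_zero_from_single 0 hRA₁ η h0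
    have h2 : (lpullO f).hom = 0 := by
      refine (D.homEquiv _ _).injective (h1.trans ?_)
      rw [Adjunction.homEquiv_unit, Functor.map_zero, comp_zero]
    refine SplitFibre.not_isZero_one (X := X) (IsZero.of_iso ?_ (SplitFibre.oneIso X))
    exact IsZero.of_epi_eq_zero (lpullO f).hom h2
  rw [Preadditive.mono_iff_cancel_zero]
  intro P β hβ
  by_contra hne
  -- reduce to a section
  have hP : ¬ IsZero P := fun h => hne (h.eq_of_src _ _)
  obtain ⟨β', hβ', hβ'0⟩ : ∃ β' : OS ⟶ DCoh.HD Z 0,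
      β' ≫ (homologyFunctor (pt k).Modules 0).map (tr f hf a adj O eO hω ι) = 0 ∧ β' ≠ 0 := by
    let ker := kernel ((homologyFunctor (pt k).Modules 0).map (tr f hf a adj O eO hω ι))
    have hker : ¬ IsZero ker := fun h => hne (by
      rw [← kernel.lift_ι _ β hβ, h.eq_of_tgt (kernel.lift _ β hβ) 0, zero_comp])
    obtain ⟨α, hα⟩ := exists_ne_zero_from _ hker
    refine ⟨α ≫ kernel.ι _, (Category.assoc _ _ _).trans (by rw [kernel.condition, comp_zero]),
      fun h => hα ((cancel_mono (kernel.ι _)).1 (h.trans zero_comp.symm))⟩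
  obtain ⟨z, hz⟩ := Heart.exists_from_single hZ β'
  have hz1 : z ≫ tr f hf a adj O eO hω ι = 0 := by
    refine Heart.eq_zero_to_single 0 (inferInstance : ((singleFunctor (pt k).Modules 0).obj OS).IsLE 0) _ ?_
    rw [Functor.map_comp, hz, Category.assoc, hβ', comp_zero]
  let w : A₁ ⟶ sg (om a O) := (lpullO f).inv ≫ (D.homEquiv _ _).symm z
  have hzw : z = η ≫ (DCoh.Rpush f).map w := by
    change z = D.homEquiv _ _ (lpullO f).hom ≫ (DCoh.Rpush f).map w
    rw [← Adjunction.homEquiv_naturality_right, Iso.hom_inv_id_assoc, Equiv.apply_symm_apply]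
  have h2 : tr f hf a adj O eO hA₁ (w ≫ ι) = 0 := by
    refine Heart.eq_zero_to_injective hRA₁ _ ((cancel_epi ((homologyFunctor (pt k).Modules 0).map η)).1 ?_)
    rw [← Functor.map_comp, tr_precomp f hf a adj O eO hω hA₁, ← Category.assoc, ← hzw, hz1,
      Functor.map_zero, comp_zero]
  have h3 : w ≫ ι = 0 := tr_injective f hf a adj O eO hA₁ (h2.trans (tr_zero f hf a adj O eO hA₁).symm)
  have h4 : w = 0 := eq_zero_of_comp_ι f hX hf a adj O eO ι w
    (inferInstance : ((singleFunctor X.Modules 0).obj (Coh.structureModule X)).IsLE 0) h3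
  refine hβ'0 ((cancel_epi ((singleFunctorCompHomologyFunctorIso (pt k).Modules 0).hom.app OS)).1 ?_)
  rw [← hz, hzw, h4, Functor.map_zero, comp_zero, Functor.map_zero, comp_zero]

include hX hf adj eO in
/-- Nonzero endomorphisms of `ω` are invertible. -/
theorem isIso_of_ne_zero (hk : IsIso f.appTop) (φ : om a O ⟶ om a O) (hφ : φ ≠ 0) : IsIso φ := by
  obtain ⟨ι, hι⟩ := exists_ι f hX hf a adj O eO
  haveI := hι
  have hω : DCoh.IsQCohD (sg (om a O)) := isQCohD_sg _ ((a.obj O).property (-1))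
  haveI := mono_tr_ι f hX hf a adj O eO ι hk hω
  let H := homologyFunctor (pt k).Modules 0
  let OS := Coh.structureModule (pt k)
  let e := (singleFunctorCompHomologyFunctorIso (pt k).Modules 0).app OS
  have hZ := isLE_Rpush_sg f hX (om a O) ((a.obj O).property (-1))
  let v := tr f hf a adj O eO hω ((singleFunctor X.Modules (-1)).map φ ≫ ι)
  let c : OS ⟶ OS := Injective.factorThru (H.map v ≫ e.hom) (H.map (tr f hf a adj O eO hω ι) ≫ e.hom)
  have hc : v = tr f hf a adj O eO hω ι ≫ (singleFunctor _ 0).map c := by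
    refine sub_eq_zero.1 (Heart.eq_zero_to_single 0 hZ _ ?_)
    rw [Functor.map_sub, Functor.map_comp, sub_eq_zero]
    refine (cancel_mono e.hom).1 ?_
    have hn := (singleFunctorCompHomologyFunctorIso (pt k).Modules 0).hom.naturality c
    simp only [Functor.comp_map, Functor.id_map] at hn
    rw [Category.assoc]
    refine Eq.trans ?_ (congrArg (H.map (tr f hf a adj O eO hω ι) ≫ ·) hn).symm
    exact ((Category.assoc _ _ _).symm.trans
      (Injective.comp_factorThru (H.map v ≫ e.hom) (H.map (tr f hf a adj O eO hω ι) ≫ e.hom))).symm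
  rw [← tr_postcomp] at hc
  have hu := tr_injective f hf a adj O eO hω hc
  have hc0 : c ≠ 0 := fun h => by
    rw [h] at hu
    refine hφ (sg_comp_eq_zero a O ι φ ?_)
    rw [hu]
    have : endO O eO (0 : OS ⟶ OS) = 0 := ObjectProperty.hom_ext _ (by simp [endO])
    rw [this]
    haveI := adj.right_adjoint_additive
    rw [Functor.map_zero]
    exact comp_zero
  haveI := Point.isIso_of_ne_zero c hc0
  haveI : IsIso (endO O eO c).hom := by
    change IsIso (eO.hom ≫ (singleFunctor _ 0).map c ≫ eO.inv)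
    infer_instance
  haveI : IsIso ((ObjectProperty.ι _).map (endO O eO c)) := ‹IsIso (endO O eO c).hom›
  haveI : IsIso (endO O eO c) := isIso_of_reflects_iso _ (ObjectProperty.ι _)
  haveI : IsIso (a.map (endO O eO c)).hom :=
    inferInstanceAs (IsIso ((ObjectProperty.ι _).map (a.map (endO O eO c))))
  have h1 := congrArg (homologyFunctor X.Modules (-1)).map hu
  rw [map_sg_comp, Functor.map_comp] at h1
  haveI : IsIso ((singleFunctorCompHomologyFunctorIso X.Modules (-1)).hom.app (om a O) ≫ φ ≫ (jι a O ι).hom) :=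
    h1 ▸ inferInstance
  haveI : IsIso (φ ≫ (jι a O ι).hom) := IsIso.of_isIso_comp_left
    ((singleFunctorCompHomologyFunctorIso X.Modules (-1)).hom.app (om a O)) _
  exact IsIso.of_isIso_comp_right φ (jι a O ι).hom

end Groth.Agent.H56.CurveDual.Duality
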