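import Groth.Agent.H56.CurveDual.DimOne
import Groth.Agent.H56.CurveDual.Consts
import Groth.Agent.H56.PointHom.Ext
import Groth.Agent.H34.DefAmple
import Groth.Agent.Lib.Modules.Support
import Groth.Agent.Lib.QCoh.Closure

/-!
# Global sections onto zero-dimensional quotients
-/

set_option autoImplicit false
set_option linter.style.haveILetI false
set_option linter.unusedSectionVars false
set_option maxHeartbeats 800000

universe u

open CategoryTheory CategoryTheory.Limits AlgebraicGeometry TopologicalSpace Opposite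

attribute [local instance] HasDerivedCategory.standard

namespace Groth.Agent.H56.CurveDual.Generate

open Groth.Agent.Lib Groth.Agent.H56.CurveDual

variable {X : Scheme.{u}}

theorem isClosed_singleton_of_dim_le_zero {Z : Set X} (hZc : IsClosed Z)
    (hZ : topologicalKrullDim Z ≤ 0) {x : X} (hx : x ∈ Z) : IsClosed ({x} : Set X) := by
  have h : ∀ y ∈ closure ({x} : Set X), y = x := fun y hy => by
    by_contra hne
    have hyZ : y ∈ Z := hZc.closure_subset_iff.2 (Set.singleton_subset_iff.2 hx) hy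
    have sub : ∀ {a b : Z}, a ⤳ b ↔ (a : X) ⤳ (b : X) := fun {a b} => subtype_specializes_iff a b
    let A : IrreducibleCloseds Z := ⟨closure {⟨y, hyZ⟩}, isIrreducible_singleton.closure, isClosed_closure⟩
    let B : IrreducibleCloseds Z := ⟨closure {⟨x, hx⟩}, isIrreducible_singleton.closure, isClosed_closure⟩
    have hspec : (⟨x, hx⟩ : Z) ⤳ ⟨y, hyZ⟩ := sub.2 (specializes_iff_mem_closure.2 hy)
    have hAB : A < B := by
      refine lt_of_le_of_ne (show (A : Set Z) ⊆ B from specializes_iff_closure_subset.1 hspec) fun h => hne ?_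
      have h2 : (⟨x, hx⟩ : Z) ∈ (A : Set Z) := by rw [h]; exact subset_closure rfl
      exact ((sub.1 hspec).antisymm
        (sub.1 (specializes_iff_mem_closure.2 h2))).eq.symm
    have h1 := Order.LTSeries.length_le_krullDim
      ((RelSeries.singleton _ A).snoc B (by simpa using hAB))
    exact absurd (h1.trans hZ) (by simp [RelSeries.singleton, RelSeries.snoc, RelSeries.append])
  rw [show ({x} : Set X) = closure {x} from subset_closure.antisymm fun y hy => h y hy]
  exact isClosed_closure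

theorem not_subsingleton_HH_zero_of_torsion [IsLocallyNoetherian X] [CompactSpace X] {C : X.Modules}
    (hC : ∀ x, ¬ IsClosed ({x} : Set X) → Subsingleton (C.presheaf.stalk x)) (hne : ¬ IsZero C) :
    ¬ Subsingleton (Coh.HH X C 0) := by
  intro hsub
  apply hne
  haveI := H34.DefAmple.isFlasque_toAb hC
  refine Modules.Stalk.isZero_iff_stalk_subsingleton.2 fun x => subsingleton_of_forall_eq 0 fun v => ?_
  obtain ⟨U, hU, s, rfl⟩ := TopCat.Presheaf.exists_germ_eq C.presheaf v
  obtain ⟨t, ht⟩ := Lib.ZarCoh.Basic.flasque_surjective (X := X.toTopCat) (Coh.toAb C) (le_top : U ≤ ⊤) s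
  haveI hs := (Curves.GlobalSections.h0Equiv C).symm.injective.subsingleton
  have ht0 : t = 0 := @Subsingleton.elim _ hs t 0
  rw [← ht, ht0, map_zero]
  exact map_zero _

/-- Global sections of a map out of `O` control `H⁰`. -/
theorem mapK_zero_eq_zero (k : Type u) [Field k] [X.Over (Spec (CommRingCat.of k))] {M N : X.Modules}
    (φ : M ⟶ N) (h : ∀ t : Γ(M, ⊤), φ.app ⊤ t = 0) : Curves.LES.mapK k φ 0 = 0 := by
  refine LinearMap.ext fun x => (Curves.GlobalSections.h0Equiv N).injective ?_
  rw [LinearMap.zero_apply, map_zero]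
  change Sheaf.H.equiv₀ (Coh.toAb N) _ (Sheaf.H.map (Curves.LES.toAbMap φ) 0 x) = 0
  rw [← Sheaf.H.equiv₀_naturality]
  exact h _

theorem h1_mapK_surjective (k : Type u) [Field k] [X.Over (Spec (CommRingCat.of k))]
    [IsLocallyNoetherian X] [CompactSpace X] (hdim : topologicalKrullDim X ≤ 1) {M N : X.Modules}
    (φ : M ⟶ N) [Epi φ] : Function.Surjective (Curves.LES.mapK k φ 1) := by
  let S : ShortComplex X.Modules := ShortComplex.mk (kernel.ι φ) φ (kernel.condition φ)
  have hS : S.ShortExact :=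
    { exact := ShortComplex.exact_of_f_is_kernel _ (kernelIsKernel φ)
      mono_f := inferInstanceAs (Mono (kernel.ι φ))
      epi_g := inferInstanceAs (Epi φ) }
  intro y
  haveI := H34.HOne.h2_subsingleton hdim S.X₁
  exact ((Curves.LES.exactK₃ k hS 1 2 rfl) y).1 (Subsingleton.elim _ _)

theorem main (k : Type u) [Field k] (X : Scheme.{u}) [X.Over (Spec (CommRingCat.of k))]
    [IsProper (X ↘ (Spec (CommRingCat.of k)))] (hdim : topologicalKrullDim X = 1)
    (h0 : Module.finrank k (Coh.HH X (Coh.structureModule X) 0) = 1)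
    [DCoh.HasRpush (X ↘ (Spec (CommRingCat.of k)))] (h : DCoh.RpushPreservesQCoh (X ↘ (Spec (CommRingCat.of k))))
    [DCoh.HasShriek (X ↘ (Spec (CommRingCat.of k))) h]
    (OY : DCoh.DQCoh (Spec (CommRingCat.of k)))
    (eO : OY.obj ≅ DCoh.inD (Spec (CommRingCat.of k)) (Coh.structureModule (Spec (CommRingCat.of k))))
    (F Q : X.Modules) (hF : Coh.IsCoh F) (hQ : Coh.IsCoh Q)
    (f : DCoh.dualizingMod (X ↘ (Spec (CommRingCat.of k))) h OY 1 ⟶ F) (g : F ⟶ Q) [Epi g] (w : f ≫ g = 0)
    (hex : (ShortComplex.mk f g w).Exact)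
    (hQ0 : ∀ x, ¬ IsClosed ({x} : Set X) → Subsingleton (Q.presheaf.stalk x))
    (hQ2 : 2 ≤ Module.finrank k (Coh.HH X Q 0))
    (hno : ∀ (Q' : X.Modules) (i : Q' ⟶ F), Mono i → Mono (i ≫ g) → IsZero Q')
    {G : X.Modules} [G.IsQuasicoherent] (s : G ⟶ F) (hs : ∀ t : Γ(F, ⊤), ∃ t', s.app ⊤ t' = t) : Epi (s ≫ g) := by
  let p := X ↘ Spec (CommRingCat.of k)
  haveI := LocallyOfFiniteType.isLocallyNoetherian p
  haveI : CompactSpace X := QuasiCompact.compactSpace_of_compactSpace p
  haveI := hF.1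
  haveI := hQ.1
  have hk := Consts.isIso_appTop X h0
  by_contra hepi
  let C := cokernel (s ≫ g)
  let π : Q ⟶ C := cokernel.π (s ≫ g)
  have hCne : ¬ IsZero C := fun hz => hepi
    (Preadditive.epi_of_isZero_cokernel _ hz)
  have hCt : ∀ x, ¬ IsClosed ({x} : Set X) → Subsingleton (C.presheaf.stalk x) := fun x hx => by
    exact @Function.Surjective.subsingleton _ _ _ (hQ0 x hx)
      ((Modules.Stalk.epi_iff_stalk_surjective π).1 inferInstance x)
  let γ : F ⟶ C := g ≫ π
  haveI : Epi γ := epi_comp _ _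
  let F' := kernel γ
  let f' : DCoh.dualizingMod p h OY 1 ⟶ F' := kernel.lift γ f (by rw [← Category.assoc, w, zero_comp])
  let Q' := kernel π
  let g' : F' ⟶ Q' := kernel.lift π (kernel.ι γ ≫ g) (by rw [Category.assoc]; exact kernel.condition γ)
  have hsγ : ∀ t : Γ(F, ⊤), γ.app ⊤ t = 0 := fun t => by
    obtain ⟨t', rfl⟩ := hs t
    have h1 : (s ≫ γ).app ⊤ t' = 0 := by
      rw [show s ≫ γ = 0 from (Category.assoc s g π).symm.trans (cokernel.condition _)]
      rfl
    exact h1
  let S : ShortComplex X.Modules := ShortComplex.mk (kernel.ι γ) γ (kernel.condition γ)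
  have hS : S.ShortExact :=
    { exact := ShortComplex.exact_of_f_is_kernel _ (kernelIsKernel γ)
      mono_f := inferInstanceAs (Mono (kernel.ι γ))
      epi_g := inferInstanceAs (Epi γ) }
  have hδ : Function.Injective (Curves.LES.δK k hS 0 1 rfl) := by
    refine LinearMap.ker_eq_bot.1 (LinearMap.ker_eq_bot'.2 fun x hx => ?_)
    obtain ⟨y, rfl⟩ := ((Curves.LES.exactK₃ k hS 0 1 rfl) x).1 hx
    rw [show Curves.LES.mapK k S.g 0 = 0 from mapK_zero_eq_zero k γ hsγ]
    rfl
  have hF'1 : ¬ Subsingleton (Coh.HH X F' 1) := fun hsub =>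
    not_subsingleton_HH_zero_of_torsion hCt hCne (@Function.Injective.subsingleton _ _ _ hδ hsub)
  have hCq : C.IsQuasicoherent := QCoh.Closure.isQCoh_cokernel _
  haveI := hCq
  have hF'q : F'.IsQuasicoherent := QCoh.Closure.isQCoh_kernel γ
  have hQ'q : Q'.IsQuasicoherent := QCoh.Closure.isQCoh_kernel π
  have hQ't : ∀ x, ¬ IsClosed ({x} : Set X) → Subsingleton (Q'.presheaf.stalk x) := fun x hx => by
    by_contra hns
    exact (show x ∈ CohB1.support Q from Modules.Support.support_subset_of_mono (kernel.ι π) hns) (hQ0 x hx)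
  obtain ⟨r, hr⟩ : ∃ r : F' ⟶ DCoh.dualizingMod p h OY 1, r ≠ 0 := by
    by_contra hh
    push Not at hh
    exact hF'1 (Duality.subsingleton_HH_one p hdim.le h (DCoh.shriek p h)
      (DCoh.shriekAdj p h) OY eO F' hF'q hh)
  have hg'epi : Epi g' := by
    rw [epi_iff_surjective_up_to_refinements]
    intro A y
    obtain ⟨A', q, hq, x, hx⟩ := surjective_up_to_refinements_of_epi g (y ≫ kernel.ι π)
    refine ⟨A', q, hq, kernel.lift γ x ?_, (cancel_mono (kernel.ι π)).1 ?_⟩
    · rw [show γ = g ≫ π from rfl, ← Category.assoc, ← hx, Category.assoc, Category.assoc, kernel.condition,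
        comp_zero, comp_zero]
    · simp [g', hx]
  have w' : f' ≫ g' = 0 := (cancel_mono (kernel.ι π)).1 (by simp [f', g', w])
  have hex' : (ShortComplex.mk f' g' w').Exact := by
    rw [ShortComplex.exact_iff_exact_up_to_refinements]
    intro A x hx
    dsimp at hx
    have hx' : (x ≫ kernel.ι γ) ≫ g = 0 := by
      have := congrArg (· ≫ kernel.ι π) hx
      simpa [g'] using this
    obtain ⟨A', q, hq, y, hy⟩ := hex.exact_up_to_refinements (x ≫ kernel.ι γ) hx'
    exact ⟨A', q, hq, y, (cancel_mono (kernel.ι γ)).1 (by simpa [f'] using hy)⟩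
  haveI := hg'epi
  have hfr : f' ≫ r ≠ 0 := fun hz => hr <| by
    rw [← hex'.g_desc r hz, Duality.hom_eq_zero p hdim.le h (DCoh.shriek p h)
      (DCoh.shriekAdj p h) OY eO Q' hQ'q (H34.DefAmple.h1_of_torsion hQ't) (hex'.desc r hz), comp_zero]
  haveI := Duality.isIso_of_ne_zero p hdim.le h (DCoh.shriek p h)
    (DCoh.shriekAdj p h) OY eO hk (f' ≫ r) hfr
  -- the complement of `ω` in `F'`
  let N := kernel r
  let j : N ⟶ F := kernel.ι r ≫ kernel.ι γ
  have hjg : j ≫ g = (kernel.ι r ≫ g') ≫ kernel.ι π := by simp [j, g']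
  haveI : Mono (kernel.ι r ≫ g') := by
    rw [Preadditive.mono_iff_cancel_zero]
    intro A x hx
    obtain ⟨A', q, hq, y, hy⟩ := hex'.exact_up_to_refinements (x ≫ kernel.ι r) ((Category.assoc _ _ _).trans hx)
    dsimp at hy
    have hy0 : y = 0 := (cancel_mono (f' ≫ r)).1 <| by
      rw [← Category.assoc, ← hy, Category.assoc, Category.assoc, kernel.condition, comp_zero, comp_zero, zero_comp]
    rw [hy0, zero_comp] at hy
    exact (cancel_mono (kernel.ι r)).1 (((cancel_epi q).1 (hy.trans comp_zero.symm)).trans zero_comp.symm)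
  have hN : IsZero N := hno N j (mono_comp _ _) (by rw [hjg]; exact mono_comp _ _)
  haveI : Epi f' := by
    rw [Preadditive.epi_iff_cancel_zero]
    intro A z hz
    have hid : (𝟙 F' - r ≫ CategoryTheory.inv (f' ≫ r) ≫ f') ≫ r = 0 := by simp
    have h2 : (𝟙 F' : F' ⟶ F') - r ≫ CategoryTheory.inv (f' ≫ r) ≫ f' = 0 := by
      rw [← kernel.lift_ι r _ hid, hN.eq_of_tgt (kernel.lift r _ hid) 0, zero_comp]
    rw [← Category.id_comp z, sub_eq_zero.1 h2, Category.assoc, Category.assoc, hz, comp_zero, comp_zero]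
  have hg'0 : g' = 0 := (cancel_epi f').1 (w'.trans comp_zero.symm)
  have hQ'z : IsZero Q' := IsZero.of_epi_eq_zero g' hg'0
  haveI : Mono π := Preadditive.mono_of_isZero_kernel π hQ'z
  haveI : IsIso π := isIso_of_mono_of_epi π
  obtain ⟨hd, hfin⟩ := DimOne.finrank_le_one X hdim.le h (DCoh.shriek p h) (DCoh.shriekAdj p h) OY eO hk
  haveI := hfin
  have hsurj := h1_mapK_surjective k hdim.le f'
  haveI : Module.Finite k (Coh.HH X F' 1) := Module.Finite.of_surjective _ hsurj
  have h1 : Module.finrank k (Coh.HH X C 0) ≤ 1 :=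
    (LinearMap.finrank_le_finrank_of_injective hδ).trans
      ((LinearMap.finrank_le_finrank_of_surjective hsurj).trans hd)
  rw [(Curves.LES.isoK k (asIso π) 0).finrank_eq] at hQ2
  exact absurd (hQ2.trans h1) (by norm_num)

end Groth.Agent.H56.CurveDual.Generate
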