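import Groth.Agent.H56.ProjPC.Bound
import Groth.Agent.Lib.GrothVan.Main
import Groth.Agent.Lib.GrothVanSupport
import Groth.Agent.Lib.ZarCoh.Morph
import Groth.Agent.Lib.DerivedOX.Exists
import Groth.Agent.S12902
import Groth.Prelude.Def_DCoh2

/-!
# The dualizing module of a proper curve has no sections supported at closed points
-/

set_option autoImplicit false
set_option linter.style.haveILetI false
set_option linter.unusedSectionVars false

universe u

open CategoryTheory CategoryTheory.Limits AlgebraicGeometry TopologicalSpace DerivedCategory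

attribute [local instance] HasDerivedCategory.standard

namespace Groth.Agent.H56.CurveDual

open Groth.Agent.Lib Groth.Agent.Lib.DerivedOX Groth.Agent.Lib.DerivedOX.RpushQCoh Groth.Agent.Lib.WayOut.Scheme
open Groth.Agent.Lib.WayOut.Bounded Groth.Agent.Lib.WayOut.Holim
open Groth.Agent.Lib.SpecSeq.RightHom Groth.Agent.Lib.SpecSeq.AcyclicComplex

variable {X S : Scheme.{u}} (f : X ⟶ S)

/-- Cohomological bound for direct images of bounded objects. -/
theorem isLE_Rpush_of_bounded [DCoh.HasRpush f] (r : ℕ) (C : ObjectProperty X.Modules)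
    [C.IsClosedUnderIsomorphisms] [C.ContainsZero]
    (hC : ∀ (M : X.Modules), C M → ∀ (W : S.Opens), IsAffineOpen W →
      ∀ p : ℕ, r + 1 ≤ p → Subsingleton (CohTop.HU (Coh.toAb M) p (f ⁻¹ᵁ W)))
    (E : DCoh.D X) (hE : HasP C E) (a b : ℤ) [E.IsGE a] [E.IsLE b] :
    ((DCoh.Rpush f).obj E).IsLE (b + r) := by
  refine (DerivedCategory.isLE_iff _ _).2 fun n hn => ?_
  obtain ⟨θ⟩ := nonempty_HD_Rpush f E n
  refine IsZero.of_iso ?_ θ
  obtain ⟨I, hI, ⟨e⟩⟩ := RightDerived.exists_resFunctor_obj_iso E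
  haveI := hI
  haveI := DerCat.HProd.isIso_counit E
  let eI : DerivedCategory.Q.obj I ≅ E := (quotientCompQhIso _).symm.app I ≪≫
    Qh.mapIso e ≪≫ asIso ((RightDerived.resAdj _).counit.app E)
  haveI := isIso_cmp_of_isKInjective (P f) n I
  refine IsZero.of_iso ?_ ((RH (P f) n).mapIso eI.symm ≪≫ (asIso ((cmp (P f) n).app I)).symm)
  refine (HomologicalComplex.exactAt_iff_isZero_homology
    (((P f).mapHomologicalComplex (ComplexShape.up ℤ)).obj I) n).1
    ((HomologicalComplex.exactAt_iff _ _).2 (exact_of_sect _ fun W => ?_))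
  let e' : sect (f ⁻¹ᵁ W.1) ≅ P f ⋙ sect W.1 := NatIso.ofComponents fun _ => Iso.refl _
  haveI hc := isIso_cmp_of_isKInjective (sect (f ⁻¹ᵁ W.1)) n I
  have hT : Van (sect (f ⁻¹ᵁ W.1)) C ((r : ℤ) + 1) := fun M hM m hm =>
    isZero_RS_sect (f ⁻¹ᵁ W.1) r M (fun p hp => hC M hM W.1 W.2 p hp) m hm
  have z : IsZero ((((sect (f ⁻¹ᵁ W.1)).mapHomologicalComplex (ComplexShape.up ℤ)).obj I).homology n) :=
    (isZero_RH_of_bounded hT E hE a b n (by omega)).of_iso
      (@asIso _ _ _ _ _ hc ≪≫ (RH (sect (f ⁻¹ᵁ W.1)) n).mapIso eI)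
  exact (HomologicalComplex.exactAt_iff _ _).1
    (((HomologicalComplex.exactAt_iff_isZero_homology _ _).2 z).of_iso
      ((NatIso.mapHomologicalComplex e' (ComplexShape.up ℤ)).app I))

/-- Cohomological bound for direct images to an affine scheme. -/
theorem isLE_Rpush_of_van [IsAffine S] [QuasiCompact f] [QuasiSeparated f] [DCoh.HasRpush f] (r : ℕ)
    (hv : ∀ (M : X.Modules), M.IsQuasicoherent → ∀ (W : S.Opens), IsAffineOpen W →
      ∀ p : ℕ, r + 1 ≤ p → Subsingleton (CohTop.HU (Coh.toAb M) p (f ⁻¹ᵁ W)))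
    (E : DCoh.D X) (b : ℤ) (hE : DCoh.IsQCohD E) [E.IsLE b] :
    ((DCoh.Rpush f).obj E).IsLE (b + r) := by
  have hvan : ∀ W : S.Opens, IsAffineOpen W → Van (sect (f ⁻¹ᵁ W)) (qc X) (r + 1) := fun W hW M hM n hn =>
    isZero_RS_sect (f ⁻¹ᵁ W) r M (fun p hp => hv M hM W hW p hp) n (by simpa using hn)
  refine (DerivedCategory.isLE_iff _ _).2 fun n hn => ?_
  obtain ⟨θ⟩ := nonempty_HD_Rpush f E n
  refine IsZero.of_iso ?_ θ
  obtain ⟨I, hI, ⟨e⟩⟩ := RightDerived.exists_resFunctor_obj_iso E
  haveI := hI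
  haveI := DerCat.HProd.isIso_counit E
  let eI : DerivedCategory.Q.obj I ≅ E := (quotientCompQhIso _).symm.app I ≪≫
    Qh.mapIso e ≪≫ asIso ((RightDerived.resAdj _).counit.app E)
  haveI := isIso_cmp_of_isKInjective (P f) n I
  refine IsZero.of_iso ?_ ((RH (P f) n).mapIso eI.symm ≪≫ (asIso ((cmp (P f) n).app I)).symm)
  refine (HomologicalComplex.exactAt_iff_isZero_homology
    (((P f).mapHomologicalComplex (ComplexShape.up ℤ)).obj I) n).1
    ((HomologicalComplex.exactAt_iff _ _).2 (exact_of_sect _ fun W => ?_))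
  let e' : sect (f ⁻¹ᵁ W.1) ≅ P f ⋙ sect W.1 := NatIso.ofComponents fun _ => Iso.refl _
  haveI hc := isIso_cmp_of_isKInjective (sect (f ⁻¹ᵁ W.1)) n I
  have z : IsZero ((((sect (f ⁻¹ᵁ W.1)).mapHomologicalComplex (ComplexShape.up ℤ)).obj I).homology n) :=
    (WayOut.Holim.isZero_RH (detects X) (sect (f ⁻¹ᵁ W.1)) (hvan W.1 W.2) E hE b n (by lia)).of_iso
      (@asIso _ _ _ _ _ hc ≪≫ (RH (sect (f ⁻¹ᵁ W.1)) n).mapIso eI)
  exact (HomologicalComplex.exactAt_iff _ _).1
    (((HomologicalComplex.exactAt_iff_isZero_homology _ _).2 z).of_iso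
      ((NatIso.mapHomologicalComplex e' (ComplexShape.up ℤ)).app I))

theorem bijective_map_of_le (F : TopCat.Presheaf AddCommGrpCat.{u} X.toTopCat) {A B : X.Opens}
    (hAB : A ≤ B) (hBA : B ≤ A) : Function.Bijective (F.map (homOfLE hAB).op) := by
  obtain rfl := le_antisymm hAB hBA
  rw [show (homOfLE hAB).op = 𝟙 _ from Subsingleton.elim _ _, F.map_id]
  exact Function.bijective_id

/-- Modules supported in a closed set of dimension at most `d` have no higher cohomology over opens. -/
theorem subsingleton_HU_of_support [NoetherianSpace X] {N : ℕ} (hN : topologicalKrullDim X ≤ N)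
    (M : X.Modules) {Z : Set X} (hZ : IsClosed Z) {d : ℕ} (hd : topologicalKrullDim Z ≤ d)
    (hM : ∀ x, x ∉ Z → Subsingleton (M.presheaf.stalk x)) (U : X.Opens) (p : ℕ) (hp : d < p) :
    Subsingleton (CohTop.HU (Coh.toAb M) p U) := by
  obtain ⟨e⟩ := ZarCoh.Morph.nonempty_HHon_equiv M U p
  haveI : Subsingleton (Coh.HHon X M U p) := by
    haveI : NoetherianSpace (U : Scheme.{u}) := U.ι.isOpenEmbedding.isInducing.noetherianSpace
    refine GrothVanSupport.H_subsingleton N ((U.ι.isOpenEmbedding.isInducing.topologicalKrullDim_le).trans hN)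
      (hZ.preimage U.ι.base.hom.continuous) ((Topology.IsInducing.topologicalKrullDim_le
        (f := fun w : (U.ι ⁻¹' Z : Set (U : Scheme.{u})) => (⟨U.ι w.1, w.2⟩ : Z)) ?_).trans hd) _ (fun x hx => ?_) p hp
    · exact (U.ι.isOpenEmbedding.isInducing.comp Topology.IsInducing.subtypeVal).codRestrict _
    · haveI := hM (U.ι x) hx
      exact @AddCommGrpCat.isZero_of_subsingleton _
        (Modules.StalkRestrict.restrictStalkAddEquiv U.ι M x).toEquiv.subsingleton
  exact e.symm.toEquiv.subsingleton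

theorem topologicalKrullDim_le_zero_of_closedPoints {Z : Set X} (hZ : IsClosed Z)
    (h : ∀ x ∈ Z, IsClosed ({x} : Set X)) : topologicalKrullDim Z ≤ (0 : ℕ) := by
  haveI : QuasiSober Z := hZ.isClosedEmbedding_subtypeVal.quasiSober
  change Order.krullDim _ ≤ _
  rw [Nat.cast_zero, Order.krullDim_nonpos_iff_forall_isMax]
  intro A B hAB
  have hsing : ∀ C : IrreducibleCloseds Z, ∃ c, (C : Set Z) = {c} := fun C => by
    refine ⟨C.isIrreducible.genericPoint, ?_⟩
    have h2 : IsClosed ({C.isIrreducible.genericPoint} : Set Z) := by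
      have := (h _ (Subtype.prop C.isIrreducible.genericPoint)).preimage (continuous_subtype_val (p := (· ∈ Z)))
      convert this using 1
      ext z
      exact Subtype.ext_iff
    have h1 := C.isIrreducible.genericPoint_closure_eq
    rw [C.isClosed.closure_eq, h2.closure_eq] at h1
    exact h1.symm
  obtain ⟨c, hc⟩ := hsing B
  obtain ⟨a, ha⟩ := hsing A
  change (B : Set Z) ⊆ A
  have h1 : a ∈ ({c} : Set Z) := hc ▸ hAB (show a ∈ (A : Set Z) by rw [ha]; rfl)
  rw [hc, ha, ← Set.mem_singleton_iff.1 h1]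

/-- The kernel of restriction to an open containing the non-closed points vanishes. -/
theorem isZero_gammaZ {k : Type u} [Field k] (f : X ⟶ Spec (CommRingCat.of k)) [IsProper f]
    (hX : topologicalKrullDim X ≤ (1 : ℕ)) [DCoh.HasRpush f] (hf : DCoh.RpushPreservesQCoh f)
    (a : DCoh.DQCoh (Spec (CommRingCat.of k)) ⥤ DCoh.DQCoh X) (adj : DCoh.RpushQ f hf ⊣ a)
    (O : DCoh.DQCoh (Spec (CommRingCat.of k))) (hO : O.obj.IsGE 0)
    (U : X.Opens) (hU : ∀ x : X, ¬ IsClosed ({x} : Set X) → x ∈ U) :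
    IsZero ((DCoh.gammaZ U.ι).obj (DCoh.HD (a.obj O).obj (-1))) := by
  haveI := LocallyOfFiniteType.isLocallyNoetherian f
  haveI : CompactSpace X := QuasiCompact.compactSpace_of_compactSpace f
  haveI : IsNoetherian X := ⟨⟩
  let K := (a.obj O).obj
  have hK : DCoh.IsQCohD K := (a.obj O).property
  have key : ∀ (A : DCoh.D X), DCoh.IsQCohD A → ((DCoh.Rpush f).obj A).IsLE (-1) →
      ∀ φ : A ⟶ K, φ = 0 := fun A hA hle φ => by
    let A' : DCoh.DQCoh X := ⟨A, hA⟩
    let φ' : A' ⟶ a.obj O := ObjectProperty.homMk φ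
    have h1 : (adj.homEquiv A' O).symm φ' = 0 := by
      refine ObjectProperty.hom_ext _ ?_
      have h2 : TStructure.t.IsLE ((DCoh.RpushQ f hf).obj A').obj (-1) := hle
      have h3 : TStructure.t.IsGE O.obj 0 := hO
      exact TStructure.t.zero _ (-1) 0 (by lia)
    have h4 : φ' = 0 := by
      rw [← (adj.homEquiv A' O).apply_symm_apply φ', h1, Adjunction.homEquiv_unit]
      haveI := adj.right_adjoint_additive
      rw [Functor.map_zero, comp_zero]
    exact congrArg (fun g => g.hom) h4
  have hGE : TStructure.t.IsGE K (-1) := by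
    let A := (TStructure.t.truncLT (-1)).obj K
    have hA : DCoh.IsQCohD A := hasP_truncLT (P := qc X) hK (-1)
    haveI : A.IsLE (-2) := TStructure.t.isLE_truncLT_obj K (-1) (-2) (by lia)
    have hle : ((DCoh.Rpush f).obj A).IsLE (-2 + (1 : ℕ)) := isLE_Rpush_of_van f 1 (fun M _ W _ p hp =>
      subsingleton_HU_of_support (N := 1) hX M isClosed_univ (d := 1)
        ((Topology.IsInducing.subtypeVal.topologicalKrullDim_le).trans hX)
        (fun x hx => absurd (Set.mem_univ x) hx) _ p (by omega)) A (-2) hA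
    have h0 := key A hA (by simpa using hle) ((TStructure.t.truncLTι (-1)).app K)
    refine (DerivedCategory.isGE_iff K (-1)).2 fun i hi => ?_
    haveI := isIso_homologyMap_truncLTι K (-1) i hi
    have h5 : (homologyFunctor X.Modules i).map ((TStructure.t.truncLTι (-1)).app K) = 0 := by
      rw [h0, Functor.map_zero]
    exact (IsZero.iff_id_eq_zero _).2 ((IsIso.inv_hom_id
      ((homologyFunctor X.Modules i).map ((TStructure.t.truncLTι (-1)).app K))).symm.trans
      ((congrArg (fun t => CategoryTheory.inv ((homologyFunctor X.Modules i).map ((TStructure.t.truncLTι (-1)).app K)) ≫ t) h5).trans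
        comp_zero))
  let ω := DCoh.HD K (-1)
  let M := (DCoh.gammaZ U.ι).obj ω
  haveI : QuasiCompact U.ι := inferInstance
  have hM : Coh.IsQCoh M := Groth.Agent.S12902.result U.ι ω (hK (-1))
  let Z : Set X := (U : Set X)ᶜ
  have hstalk : ∀ x : X, x ∉ Z → Subsingleton (M.presheaf.stalk x) := fun x hx => by
    have hxU : x ∈ U := not_not.1 hx
    refine subsingleton_of_forall_eq 0 fun v => ?_
    obtain ⟨V, hV, s, rfl⟩ := TopCat.Presheaf.exists_germ_eq M.presheaf v
    let W : X.Opens := V ⊓ U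
    rw [← TopCat.Presheaf.germ_res_apply M.presheaf (homOfLE (inf_le_left : W ≤ V)) x ⟨hV, hxU⟩ s]
    refine (congrArg _ ?_).trans (map_zero _)
    have hmono := fun V : X.Opens => (Modules.Stalk.mono_iff_app_injective
      ((CxOX.gammaZι U.ι).app ω)).mp (by dsimp [CxOX.gammaZι]; exact equalizer.ι_mono) V
    refine hmono W ?_
    rw [map_zero]
    let t := M.presheaf.map (homOfLE (inf_le_left : W ≤ V)).op s
    have h1 : ((Scheme.Modules.restrictAdjunction U.ι).unit.app ω).app W
        (((CxOX.gammaZι U.ι).app ω).app W t) = 0 :=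
      congrArg (fun g : M ⟶ _ => g.app W t) (kernel.condition ((Scheme.Modules.restrictAdjunction U.ι).unit.app ω))
    have h2 : U.ι ''ᵁ (U.ι ⁻¹ᵁ W) = W := by
      rw [Scheme.Hom.image_preimage_eq_opensRange_inf, Scheme.Opens.opensRange_ι]
      exact inf_eq_right.2 inf_le_right
    refine (bijective_map_of_le ω.presheaf (U.ι.image_preimage_le W) h2.ge).1 ?_
    exact h1.trans (map_zero _).symm
  have hle : ((DCoh.Rpush f).obj ((singleFunctor X.Modules (-1)).obj M)).IsLE (-1 + (0 : ℕ)) := by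
    let C : ObjectProperty X.Modules := fun N => Coh.IsQCoh N ∧ ∀ x, x ∉ Z → Subsingleton (N.presheaf.stalk x)
    haveI : C.IsClosedUnderIsomorphisms := ⟨fun {N N'} e h => ⟨(qc X).prop_of_iso e h.1, fun x hx =>
      haveI : Subsingleton ((Modules.Stalk.stalkFunctor X x).obj N) := h.2 x hx
      ((Modules.Stalk.stalkFunctor X x).mapIso e).addCommGroupIsoToAddEquiv.symm.toEquiv.subsingleton⟩⟩
    have hC0 : ∀ N : X.Modules, IsZero N → C N := fun N hz => ⟨qc_of_isZero hz, fun x _ =>
      AddCommGrpCat.subsingleton_of_isZero (Functor.map_isZero (Modules.Stalk.stalkFunctor X x) hz)⟩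
    haveI : C.ContainsZero := ⟨⟨_, isZero_zero X.Modules, hC0 _ (isZero_zero _)⟩⟩
    have hC : ∀ (N : X.Modules), C N → ∀ (W : (Spec (CommRingCat.of k)).Opens), IsAffineOpen W →
        ∀ p : ℕ, 0 + 1 ≤ p → Subsingleton (CohTop.HU (Coh.toAb N) p (f ⁻¹ᵁ W)) := fun N hN W _ p hp =>
      subsingleton_HU_of_support (N := 1) hX N U.isOpen.isClosed_compl
        (topologicalKrullDim_le_zero_of_closedPoints U.isOpen.isClosed_compl
          fun x hx => Classical.byContradiction fun h => hx (hU x h)) hN.2 _ p (by omega)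
    haveI h1 : ((singleFunctor X.Modules (-1)).obj M).IsGE (-1) := inferInstance
    haveI h2 : ((singleFunctor X.Modules (-1)).obj M).IsLE (-1) := inferInstance
    refine isLE_Rpush_of_bounded f 0 C hC _ (fun i => ?_) (-1) (-1)
    by_cases hi : i = -1
    · subst hi
      exact C.prop_of_iso ((singleFunctorCompHomologyFunctorIso X.Modules (-1)).app M).symm ⟨hM, hstalk⟩
    · have hz : IsZero ((homologyFunctor X.Modules i).obj ((singleFunctor X.Modules (-1)).obj M)) := by
        rcases lt_or_gt_of_ne hi with h | h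
        · exact DerivedCategory.isZero_of_isGE _ (-1) i h
        · exact DerivedCategory.isZero_of_isLE _ (-1) i h
      exact hC0 _ hz
  let T := (TStructure.t.truncLT 0).obj K
  haveI := hGE
  haveI hT1 : T.IsGE (-1) := (inferInstance : TStructure.t.IsGE T (-1))
  haveI hT2 : T.IsLE (-1) := TStructure.t.isLE_truncLT_obj K 0 (-1) (by lia)
  obtain ⟨N, ⟨e⟩⟩ := exists_iso_singleFunctor_obj_of_isGE_of_isLE T (-1)
  haveI := isIso_homologyMap_truncLTι K 0 (-1) (by lia)
  let eN : N ≅ ω := ((singleFunctorCompHomologyFunctorIso X.Modules (-1)).app N).symm ≪≫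
    (homologyFunctor X.Modules (-1)).mapIso e.symm ≪≫
    asIso ((homologyFunctor X.Modules (-1)).map ((TStructure.t.truncLTι 0).app K))
  let g : M ⟶ N := (CxOX.gammaZι U.ι).app ω ≫ eN.inv
  have hq : DCoh.IsQCohD ((singleFunctor X.Modules (-1)).obj M) := fun i => by
    by_cases hi : i = -1
    · subst hi
      exact (qc X).prop_of_iso ((singleFunctorCompHomologyFunctorIso X.Modules (-1)).app M).symm hM
    · rcases lt_or_gt_of_ne hi with h | h
      · exact qc_of_isZero (DerivedCategory.isZero_of_isGE _ (-1) i h)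
      · exact qc_of_isZero (DerivedCategory.isZero_of_isLE _ (-1) i h)
  have h0 := key _ hq (by simpa using hle)
    (((singleFunctor X.Modules (-1)).map g ≫ e.inv) ≫ (TStructure.t.truncLTι 0).app K)
  have h1 := congrArg (homologyFunctor X.Modules (-1)).map h0
  rw [Functor.map_comp, Functor.map_zero] at h1
  have h2 := (cancel_mono ((homologyFunctor X.Modules (-1)).map ((TStructure.t.truncLTι 0).app K))).1
    (h1.trans zero_comp.symm)
  rw [Functor.map_comp] at h2
  have h3 := (cancel_mono ((homologyFunctor X.Modules (-1)).map e.inv)).1 (h2.trans zero_comp.symm)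
  have hg : g = 0 := by
    have := (singleFunctorCompHomologyFunctorIso X.Modules (-1)).hom.naturality g
    simp only [Functor.comp_map, Functor.id_map] at this
    rw [h3, zero_comp] at this
    exact (cancel_epi ((singleFunctorCompHomologyFunctorIso X.Modules (-1)).hom.app M)).1
      (this.symm.trans comp_zero.symm)
  have h4 : (CxOX.gammaZι U.ι).app ω = 0 := (cancel_mono eN.inv).1 (hg.trans zero_comp.symm)
  haveI : Mono ((CxOX.gammaZι U.ι).app ω) := by dsimp [CxOX.gammaZι]; exact equalizer.ι_mono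
  exact IsZero.of_mono_eq_zero ((CxOX.gammaZι U.ι).app ω) h4

end Groth.Agent.H56.CurveDual
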