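import Groth.Agent.S1811
import Groth.Agent.Lib.DualSch.Affine
import Groth.Agent.Lib.DMod.Degree
import Groth.Agent.Lib.Modules.StalkRestrict
import Groth.Prelude.Def_CurvBase

/-!
# The dualizing module has generic rank at most one
-/

set_option autoImplicit false
set_option linter.style.haveILetI false

universe u

open CategoryTheory CategoryTheory.Limits AlgebraicGeometry

attribute [local instance] HasDerivedCategory.standard

namespace Groth.Agent.H56.CurveDual.Rank

open Groth.Agent.Lib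

/-- At the zero ideal of a domain the cohomology of a dualizing complex is cyclic. -/
theorem exists_generator {A : Type u} [CommRing A] [IsDomain A] [IsNoetherianRing A] {ω : Dual.D A}
    (hω : Dual.IsDualizing A ω) (i : ℤ) :
    ∃ c : Dual.HD A ω i, ∀ m : Dual.HD A ω i, ∃ a b : A, a ≠ 0 ∧ a • m = b • c := by
  let p : PrimeSpectrum A := ⟨⊥, Ideal.isPrime_bot⟩
  let ε : (A ⧸ p.asIdeal) ≃ₗ[A] A := Submodule.quotEquivOfEqBot _ rfl
  let θ : Dual.inD A (A ⧸ p.asIdeal) ≅ Dual.inD A A :=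
    (DerivedCategory.singleFunctor (ModuleCat.{u} A) 0).mapIso ε.toModuleIso
  let E : (Dual.inD A (A ⧸ p.asIdeal) ⟶ ω⟦i⟧) ≃ₗ[A] Dual.HD A ω i :=
    (Linear.homCongr A θ (Iso.refl (ω⟦i⟧))).trans (DMod.Basic.homUnitShiftEquiv ω i)
  have key : ∃ c : Dual.inD A (A ⧸ p.asIdeal) ⟶ ω⟦i⟧, ∀ m : Dual.inD A (A ⧸ p.asIdeal) ⟶ ω⟦i⟧,
      ∃ a b : A, a ≠ 0 ∧ a • m = b • c := by
    by_cases hi : i = DMod.Degree.deg hω p
    · subst hi
      obtain ⟨φ, hφ⟩ := DMod.Degree.exists_generator_deg hω p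
      refine ⟨φ 1, fun m => ?_⟩
      obtain ⟨a, ha, ham⟩ := Module.notMem_support_iff'.1 hφ (Submodule.Quotient.mk m)
      rw [← Submodule.Quotient.mk_smul, Submodule.Quotient.mk_eq_zero] at ham
      obtain ⟨b, hb⟩ := ham
      exact ⟨a, b, fun h => ha (h ▸ Submodule.zero_mem _), by rw [← hb, ← map_smul, smul_eq_mul, mul_one]⟩
    · refine ⟨0, fun m => ?_⟩
      obtain ⟨a, ha, ham⟩ := Module.notMem_support_iff'.1
        (DMod.Degree.notMem_support_of_ne_deg hω p hi) m
      exact ⟨a, 0, fun h => ha (h ▸ Submodule.zero_mem _), by rw [ham, zero_smul]⟩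
  obtain ⟨c, hc⟩ := key
  refine ⟨E c, fun m => ?_⟩
  obtain ⟨a, b, ha, hab⟩ := hc (E.symm m)
  exact ⟨a, b, ha, by rw [← map_smul, ← hab, map_smul, E.apply_symm_apply]⟩

open Modules StalkModule in
/-- Sections dependent on one section give a cyclic stalk at the generic point. -/
theorem tilde_stalk_cyclic (R : CommRingCat.{u}) [IsDomain R] (M : ModuleCat.{u} R)
    (c : M) (hc : ∀ m : M, ∃ a b : R, a ≠ 0 ∧ a • m = b • c) (q : Spec R) (hq : q.asIdeal = ⊥) :
    ∃ v : (tilde M).presheaf.stalk q, ∀ w : (tilde M).presheaf.stalk q,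
      ∃ r : (Spec R).presheaf.stalk q, r • v = w := by
  letI : Algebra R ((Spec R).presheaf.stalk q) := StructureSheaf.stalkAlgebra R q
  haveI : IsLocalization.AtPrime ((Spec R).presheaf.stalk q) q.asIdeal :=
    StructureSheaf.IsLocalization.to_stalk R q
  haveI : IsScalarTower R ((Spec R).presheaf.stalk q) ((tilde M).presheaf.stalk q) :=
    .of_algebraMap_smul fun _ _ => rfl
  refine ⟨(tilde.toStalk M q).hom c, fun w => ?_⟩
  obtain ⟨⟨m, s⟩, hs⟩ := IsLocalizedModule.surj q.asIdeal.primeCompl (tilde.toStalk M q).hom w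
  obtain ⟨a, b, ha, hab⟩ := hc m
  have hu : IsUnit (algebraMap R ((Spec R).presheaf.stalk q) (a * s)) := by
    refine IsLocalization.map_units (M := q.asIdeal.primeCompl) _ ⟨a * s, ?_⟩
    show a * (s : R) ∉ q.asIdeal
    exact fun hmem => mul_ne_zero ha (fun h => s.2 (by simp [h]))
      (Ideal.mem_bot.1 (hq.le hmem))
  refine ⟨↑hu.unit⁻¹ * algebraMap R _ b, ?_⟩
  have h1 : algebraMap R ((Spec R).presheaf.stalk q) (a * s) • w =
      algebraMap R ((Spec R).presheaf.stalk q) b • (tilde.toStalk M q).hom c := by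
    rw [algebraMap_smul, algebraMap_smul, mul_smul, ← map_smul, ← hab, map_smul]
    exact congrArg (a • ·) hs
  rw [mul_smul, ← h1, ← mul_smul, hu.val_inv_mul, one_smul]

variable {k : Type u} [Field k] {X : Scheme.{u}} [X.Over (Spec (CommRingCat.of k))]
  [IsProper (X ↘ Spec (CommRingCat.of k))] [IsIntegral X]
  [DCoh.HasRpush (X ↘ Spec (CommRingCat.of k))]
  (h : DCoh.RpushPreservesQCoh (X ↘ Spec (CommRingCat.of k)))
  [DCoh.HasShriek (X ↘ Spec (CommRingCat.of k)) h]
  (OY : DCoh.DQCoh (Spec (CommRingCat.of k)))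
  (hOY : Nonempty (OY.obj ≅ DCoh.inD (Spec (CommRingCat.of k)) (Coh.structureModule (Spec (CommRingCat.of k)))))

include hOY in
/-- The dualizing modules have cyclic stalk at the generic point. -/
theorem cyclic_genericPoint (d : ℕ) (hd : topologicalKrullDim X = d) (n : ℕ) :
    ∃ v : (DCoh.dualizingMod (X ↘ Spec (CommRingCat.of k)) h OY n).presheaf.stalk (genericPoint X),
      ∀ w : (DCoh.dualizingMod (X ↘ Spec (CommRingCat.of k)) h OY n).presheaf.stalk (genericPoint X),
        ∃ r : X.presheaf.stalk (genericPoint X), r • v = w := by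
  let f := X ↘ Spec (CommRingCat.of k)
  haveI := LocallyOfFiniteType.isLocallyNoetherian f
  have hdual := (Groth.Agent.S1811.result k X d hd f rfl h (DCoh.shriek f h)
    (DCoh.shriekAdj f h) OY hOY).1
  obtain ⟨U, hU, hxU, -⟩ := exists_isAffineOpen_mem_and_subset (X := X) (x := genericPoint X) (U := ⊤) trivial
  haveI : Nonempty U := ⟨⟨_, hxU⟩⟩
  obtain ⟨ω', hω', ⟨e⟩⟩ := hdual Γ(X, U) hU.fromSpec
  haveI : IsNoetherianRing Γ(X, U) := hω'.isNoetherianRing
  obtain ⟨c, hc⟩ := exists_generator hω' (-(n : ℤ))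
  obtain ⟨φ⟩ := DualSch.Affine.nonempty_HD_iso hU.fromSpec e (-(n : ℤ))
  let q : Spec Γ(X, U) := hU.primeIdealOf ⟨_, hxU⟩
  have hq : q.asIdeal = ⊥ := by
    have h1 : q = genericPoint (Spec Γ(X, U)) := hU.primeIdealOf_genericPoint
    rw [h1, genericPoint_eq_bot_of_affine]
    rfl
  obtain ⟨v, hv⟩ := tilde_stalk_cyclic Γ(X, U) _ c hc q hq
  have hpt : hU.fromSpec q = genericPoint X := hU.fromSpec_primeIdealOf ⟨_, hxU⟩
  suffices ∀ x, hU.fromSpec q = x → ∃ v : (DCoh.dualizingMod f h OY n).presheaf.stalk x,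
      ∀ w : (DCoh.dualizingMod f h OY n).presheaf.stalk x, ∃ r : X.presheaf.stalk x, r • v = w from this _ hpt
  rintro _ rfl
  let ψ := (Modules.StalkModule.stalkModFunctor (Spec Γ(X, U)) q).mapIso φ
  refine ⟨Modules.StalkRestrict.restrictStalkAddEquiv hU.fromSpec _ q (ψ.inv v), fun w => ?_⟩
  obtain ⟨w', rfl⟩ := (Modules.StalkRestrict.restrictStalkAddEquiv hU.fromSpec _ q).surjective w
  obtain ⟨r, hr⟩ := hv (ψ.hom w')
  obtain ⟨r', rfl⟩ := (ConcreteCategory.bijective_of_isIso (hU.fromSpec.stalkMap q)).2 r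
  refine ⟨r', ?_⟩
  rw [← Modules.StalkRestrict.restrictStalkAddEquiv_smul]
  congr 1
  have h2 := congrArg ψ.inv hr
  exact ((map_smul ψ.inv.hom _ v).symm.trans h2).trans (ConcreteCategory.congr_hom ψ.hom_inv_id w')

end Groth.Agent.H56.CurveDual.Rank
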