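import Groth.Agent.H56.CurveDual.Generate
import Groth.Agent.H56.CurveDual.Rank
import Groth.Agent.Lib.StalkLoc.Basic
import Groth.Agent.Lib.CDivInt.Dim1
import Groth.Agent.Lib.Curves.Finiteness

/-!
# Extensions of torsion modules by the dualizing module are globally generated
-/

set_option autoImplicit false
set_option linter.style.haveILetI false
set_option linter.unusedSectionVars false
set_option maxHeartbeats 1000000

universe u

open CategoryTheory CategoryTheory.Limits AlgebraicGeometry TopologicalSpace Opposite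

attribute [local instance] HasDerivedCategory.standard

namespace Groth.Agent.H56.CurveDual.Rank1Generate

open Groth.Agent.Lib Groth.Agent.H56.CurveDual

variable {X : Scheme.{u}} [IsIntegral X]

local notation "η" => genericPoint X

/-- Submodules of torsion-free modules with zero generic stalk vanish. -/
theorem isZero_of_generic {F : X.Modules} [F.IsQuasicoherent]
    (htf : ∀ (x : X) (a : X.presheaf.stalk x) (m : F.presheaf.stalk x), a • m = 0 → a = 0 ∨ m = 0)
    {N : X.Modules} (i : N ⟶ F) [Mono i] (hN : Subsingleton (N.presheaf.stalk η)) : IsZero N := by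
  refine Modules.Stalk.isZero_iff_stalk_subsingleton.2 fun x => subsingleton_of_forall_eq 0 fun v => ?_
  apply (Modules.StalkModule.mono_iff_stalkMapₗ_injective i).1 inferInstance x
  rw [map_zero]
  obtain ⟨W, hxW, s, rfl⟩ := TopCat.Presheaf.exists_germ_eq N.presheaf v
  obtain ⟨U, hU, hxU, hUW⟩ := exists_isAffineOpen_mem_and_subset (X := X) (x := x) (U := W) hxW
  have hηU : η ∈ U := ((genericPoint_spec X).specializes trivial).mem_open U.isOpen hxU
  have hηW : η ∈ W := hUW hηU
  rw [Modules.StalkModule.stalkMapₗ_germ i (x := x) (U := W) hxW]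
  set t := F.presheaf.map (homOfLE hUW).op (i.app W s) with htdef
  have h0 : F.presheaf.germ U η hηU t = 0 := by
    refine (TopCat.Presheaf.germ_res_apply F.presheaf (homOfLE hUW) η hηU _).trans ?_
    rw [← Modules.StalkModule.stalkMapₗ_germ i (x := η) (U := W) hηW,
      @Subsingleton.elim _ hN (N.presheaf.germ W η hηW s) 0, map_zero]
  obtain ⟨a, haη, hat⟩ := (StalkLoc.Basic.germ_eq_zero_iff hU hηU t).1 h0
  have h1 : X.presheaf.germ U x hxU a • F.presheaf.germ U x hxU t = 0 := by
    rw [← Modules.StalkModule.germ_smul, hat, map_zero]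
  have ha0 : X.presheaf.germ U x hxU a ≠ 0 := fun hz => by
    have haz : a = 0 := germ_injective_of_isIntegral X x hxU (hz.trans (map_zero _).symm)
    rw [haz, Scheme.basicOpen_zero] at haη
    exact haη
  refine Eq.trans ?_ ((htf x _ _ h1).resolve_left ha0)
  exact (TopCat.Presheaf.germ_res_apply F.presheaf (homOfLE hUW) x hxU _).symm

variable (k : Type u) [Field k] [X.Over (Spec (CommRingCat.of k))]
  [IsProper (X ↘ Spec (CommRingCat.of k))]
  [DCoh.HasRpush (X ↘ Spec (CommRingCat.of k))] (h : DCoh.RpushPreservesQCoh (X ↘ Spec (CommRingCat.of k)))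
  [DCoh.HasShriek (X ↘ Spec (CommRingCat.of k)) h]
  (OY : DCoh.DQCoh (Spec (CommRingCat.of k)))
  (eO : OY.obj ≅ DCoh.inD (Spec (CommRingCat.of k)) (Coh.structureModule (Spec (CommRingCat.of k))))

include eO in
theorem main (hdim : topologicalKrullDim X = 1)
    (h0 : Module.finrank k (Coh.HH X (Coh.structureModule X) 0) = 1)
    (F Q : X.Modules) (hF : Coh.IsCoh F) (hQ : Coh.IsCoh Q)
    (f : DCoh.dualizingMod (X ↘ (Spec (CommRingCat.of k))) h OY 1 ⟶ F) (g : F ⟶ Q) (w : f ≫ g = 0)
    (hex : (ShortComplex.mk f g w).ShortExact)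
    (htf : ∀ (x : X) (a : X.presheaf.stalk x) (m : F.presheaf.stalk x), a • m = 0 → a = 0 ∨ m = 0)
    (hQ0 : ∀ x, ¬ IsClosed ({x} : Set X) → Subsingleton (Q.presheaf.stalk x))
    (hQ2 : 2 ≤ Module.finrank k (Coh.HH X Q 0))
    {G : X.Modules} [G.IsQuasicoherent] (s : G ⟶ F) (hs : ∀ t : Γ(F, ⊤), ∃ t', s.app ⊤ t' = t) :
    Epi s := by
  let p := X ↘ Spec (CommRingCat.of k)
  let om := DCoh.dualizingMod p h OY 1
  haveI := LocallyOfFiniteType.isLocallyNoetherian p
  haveI : CompactSpace X := QuasiCompact.compactSpace_of_compactSpace p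
  haveI := hF.1
  haveI := hQ.1
  haveI : Mono f := hex.mono_f
  haveI : Epi g := hex.epi_g
  have hk := Consts.isIso_appTop X h0
  have hη : ¬ IsClosed ({η} : Set X) := fun hc => by
    have h1 : (Set.univ : Set X) = {η} := by
      rw [← (genericPoint_spec X).def]; exact hc.closure_eq
    have : Subsingleton X := ⟨fun a b =>
      ((h1.le (Set.mem_univ a)).trans (h1.le (Set.mem_univ b)).symm :)⟩
    have h2 : topologicalKrullDim X ≤ 0 := by
      haveI : Subsingleton (IrreducibleCloseds X) := ⟨fun A B => by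
        apply IrreducibleCloseds.ext
        rw [Subsingleton.eq_univ_of_nonempty A.isIrreducible.1, Subsingleton.eq_univ_of_nonempty B.isIrreducible.1]⟩
      exact Order.krullDim_nonpos_of_subsingleton
    rw [hdim] at h2
    exact absurd h2 (by decide)
  have hclosed : ∀ x : X, ¬ IsClosed ({x} : Set X) → x = η := fun x hx => by
    by_contra hne
    exact hx (CDivInt.isClosed_singleton_of_ne_genericPoint hdim.le hne)
  have hno : ∀ (Q' : X.Modules) (i : Q' ⟶ F), Mono i → Mono (i ≫ g) → IsZero Q' := fun Q' i _ hig =>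
    isZero_of_generic htf i
      (@Function.Injective.subsingleton _ _ _
        ((Modules.StalkModule.mono_iff_stalkMapₗ_injective (i ≫ g)).1 hig η) (hQ0 η hη))
  haveI hepi : Epi (s ≫ g) := Generate.main k X hdim h0 h OY eO F Q hF hQ f g w hex.exact hQ0 hQ2 hno s hs
  -- the generic stalk of `F` is cyclic
  have hsurjη : Function.Surjective (Modules.StalkModule.stalkMapₗ f η) := by
    intro v
    have h1 := (Modules.Stalk.exact_iff_stalk _).1 hex.exact η
    rw [ShortComplex.ab_exact_iff] at h1
    exact h1 v (@Subsingleton.elim _ (hQ0 η hη) _ _)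
  have hcyc : ∃ v : F.presheaf.stalk η, ∀ u, ∃ r : X.presheaf.stalk η, r • v = u := by
    obtain ⟨v, hv⟩ := Rank.cyclic_genericPoint h OY ⟨eO⟩ 1 hdim 1
    refine ⟨Modules.StalkModule.stalkMapₗ f η v, fun u => ?_⟩
    obtain ⟨u', rfl⟩ := hsurjη u
    obtain ⟨r, rfl⟩ := hv u'
    exact ⟨r, (map_smul _ r v).symm⟩
  have hspan : ∀ e : F.presheaf.stalk η, e ≠ 0 → ∀ u, ∃ r : X.presheaf.stalk η, r • e = u := by
    obtain ⟨v, hv⟩ := hcyc
    intro e he u
    obtain ⟨r, rfl⟩ := hv e
    obtain ⟨t, rfl⟩ := hv u
    have hr : r ≠ 0 := fun hz => he (by rw [hz, zero_smul])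
    have hr' : IsUnit r := isUnit_iff_ne_zero.2 hr
    exact ⟨t * ↑hr'.unit⁻¹, by rw [smul_smul, mul_assoc, hr'.val_inv_mul, mul_one]⟩
  -- the image and the cokernel of `s`
  let C := cokernel s
  let γ : F ⟶ C := cokernel.π s
  have hCq : C.IsQuasicoherent := QCoh.Closure.isQCoh_cokernel _
  haveI := hCq
  let F1 := kernel γ
  let ι1 : F1 ⟶ F := kernel.ι γ
  have hF1q : F1.IsQuasicoherent := QCoh.Closure.isQCoh_kernel γ
  haveI := hF1q
  have hsec : ∀ t : Γ(F, ⊤), ∃ t', ι1.app ⊤ t' = t := fun t => by
    obtain ⟨t', rfl⟩ := hs t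
    refine ⟨(kernel.lift γ s (cokernel.condition s)).app ⊤ t', ?_⟩
    exact (ConcreteCategory.congr_hom (congrArg (fun φ : G ⟶ F => φ.app ⊤) (kernel.lift_ι γ s (cokernel.condition s))) t' :)
  have hF1ne : ¬ Subsingleton (F1.presheaf.stalk η) := fun hsub => by
    have h1 : IsZero F1 := isZero_of_generic htf ι1 hsub
    have h2 : s = 0 := by
      rw [← kernel.lift_ι γ s (cokernel.condition s), h1.eq_of_tgt (kernel.lift γ s _) 0, zero_comp]
    haveI : Epi (0 : G ⟶ Q) := by
      have h3 := hepi
      rw [h2, zero_comp] at h3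
      exact h3
    have h3 : IsZero Q := IsZero.of_epi_zero G Q
    haveI : Subsingleton (Coh.HH X Q 0) :=
      (Curves.GlobalSections.h0Equiv Q).toEquiv.subsingleton_congr.2
        (Modules.AffineSections.subsingleton_sections h3 ⊤)
    rw [Module.finrank_zero_of_subsingleton] at hQ2
    exact absurd hQ2 (by norm_num)
  obtain ⟨e1, he1⟩ : ∃ e1 : F1.presheaf.stalk η, e1 ≠ 0 := by
    haveI := not_subsingleton_iff_nontrivial.1 hF1ne
    exact exists_ne 0
  have hι1inj := (Modules.StalkModule.mono_iff_stalkMapₗ_injective ι1).1 inferInstance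
  have he : Modules.StalkModule.stalkMapₗ ι1 η e1 ≠ 0 := fun hz => he1 (hι1inj η (hz.trans (map_zero _).symm))
  have hCt : ∀ x, ¬ IsClosed ({x} : Set X) → Subsingleton (C.presheaf.stalk x) := fun x hx => by
    obtain rfl := hclosed x hx
    refine subsingleton_of_forall_eq 0 fun c => ?_
    obtain ⟨u, rfl⟩ := (Modules.Stalk.epi_iff_stalk_surjective γ).1 inferInstance η c
    obtain ⟨r, rfl⟩ := hspan _ he u
    show Modules.StalkModule.stalkMapₗ γ η (r • _) = 0
    rw [map_smul, ← LinearMap.comp_apply, ← Modules.StalkModule.stalkMapₗ_comp, kernel.condition,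
      Modules.StalkModule.stalkMapₗ_zero, LinearMap.zero_apply, smul_zero]
  -- dimensions
  obtain ⟨hd1, hfin1⟩ := DimOne.finrank_le_one X hdim.le h (DCoh.shriek p h) (DCoh.shriekAdj p h) OY eO hk
  haveI := hfin1
  haveI : Module.Finite k (Coh.HH X F 0) := (Curves.Finiteness.isGood_of_isCoh (k := k) hdim.le hF).1
  haveI : Module.Finite k (Coh.HH X om 0) :=
    Module.Finite.of_injective (Curves.LES.mapK k f 0) (Curves.LES.mapK_injective_of_mono k f)
  haveI : Module.Finite k (Coh.HH X Q 0) := (Curves.Finiteness.isGood_of_isCoh (k := k) hdim.le hQ).1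
  have hlt : Module.finrank k (Coh.HH X om 0) < Module.finrank k (Coh.HH X F 0) := by
    have e1 := LinearMap.finrank_range_add_finrank_ker (Curves.LES.mapK k g 0)
    have e2 : Module.finrank k (LinearMap.range (Curves.LES.δK k hex 0 1 rfl)) +
        Module.finrank k (LinearMap.ker (Curves.LES.δK k hex 0 1 rfl)) = Module.finrank k (Coh.HH X Q 0) :=
      LinearMap.finrank_range_add_finrank_ker (Curves.LES.δK k hex 0 1 rfl)
    have x1 : LinearMap.ker (Curves.LES.mapK k g 0) = LinearMap.range (Curves.LES.mapK k f 0) :=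
      (Curves.LES.exactK₂ k hex 0).linearMap_ker_eq
    have x2 : Module.finrank k (LinearMap.ker (Curves.LES.δK k hex 0 1 rfl)) = Module.finrank k (LinearMap.range (Curves.LES.mapK k g 0)) :=
      congrArg (fun W : Submodule k (Coh.HH X Q 0) => Module.finrank k W)
      (Curves.LES.exactK₃ k hex 0 1 rfl).linearMap_ker_eq
    have x3 : Module.finrank k (LinearMap.range (Curves.LES.mapK k f 0)) = Module.finrank k (Coh.HH X om 0) :=
      LinearMap.finrank_range_of_inj (Curves.LES.mapK_injective_of_mono k f)
    have x4 : Module.finrank k (LinearMap.range (Curves.LES.δK k hex 0 1 rfl)) ≤ 1 :=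
      (Submodule.finrank_le _).trans hd1
    rw [x1, x3] at e1
    omega
  -- `H¹` of the image
  have hF1h1 : Subsingleton (Coh.HH X F1 1) := by
    refine Duality.subsingleton_HH_one p hdim.le h (DCoh.shriek p h) (DCoh.shriekAdj p h) OY eO F1 hF1q
      fun φ => ?_
    by_contra hφ
    haveI hm : Mono φ := by
      have hinj : Function.Injective (Modules.StalkModule.stalkMapₗ φ η) := by
        refine LinearMap.ker_eq_bot.1 (LinearMap.ker_eq_bot'.2 fun e' he' => ?_)
        by_contra hne
        apply hφ
        have hzero : ∀ u, Modules.StalkModule.stalkMapₗ φ η u = 0 := fun u => by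
          obtain ⟨r, hr⟩ := hspan _ (fun hz => hne (hι1inj η (hz.trans (map_zero _).symm)))
            (Modules.StalkModule.stalkMapₗ ι1 η u)
          have hu : r • e' = u := hι1inj η ((map_smul _ r e').trans hr)
          rw [← hu, map_smul, he', smul_zero]
        let I := Abelian.image φ
        have hI : Subsingleton (I.presheaf.stalk η) := subsingleton_of_forall_eq 0 fun c => by
          obtain ⟨u, rfl⟩ := (Modules.Stalk.epi_iff_stalk_surjective (Abelian.factorThruImage φ)).1
            inferInstance η c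
          apply (Modules.StalkModule.mono_iff_stalkMapₗ_injective (Abelian.image.ι φ)).1 inferInstance η
          rw [map_zero]
          show Modules.StalkModule.stalkMapₗ (Abelian.image.ι φ) η
            (Modules.StalkModule.stalkMapₗ (Abelian.factorThruImage φ) η u) = 0
          rw [← LinearMap.comp_apply, ← Modules.StalkModule.stalkMapₗ_comp, Abelian.image.fac]
          exact hzero u
        have hIz : IsZero I := isZero_of_generic htf (Abelian.image.ι φ ≫ f) hI
        rw [← Abelian.image.fac φ, hIz.eq_of_tgt (Abelian.factorThruImage φ) 0, zero_comp]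
      have hK : Subsingleton ((kernel φ).presheaf.stalk η) := subsingleton_of_forall_eq 0 fun c => by
        apply (Modules.StalkModule.mono_iff_stalkMapₗ_injective (kernel.ι φ)).1 inferInstance η
        apply hinj
        rw [← LinearMap.comp_apply, ← Modules.StalkModule.stalkMapₗ_comp, kernel.condition]
        simp
      exact Preadditive.mono_of_isZero_kernel φ (isZero_of_generic htf (kernel.ι φ ≫ ι1) hK)
    have hsurj : Function.Surjective (Curves.LES.mapK k ι1 0) := fun z => by
      obtain ⟨t', ht'⟩ := hsec (Curves.GlobalSections.h0Equiv F z)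
      refine ⟨(Curves.GlobalSections.h0Equiv F1).symm t', (Curves.GlobalSections.h0Equiv F).injective ?_⟩
      refine Eq.trans ?_ ht'
      change Sheaf.H.equiv₀ (Coh.toAb F) _ (Sheaf.H.map (Curves.LES.toAbMap ι1) 0 _) = _
      rw [← Sheaf.H.equiv₀_naturality]
      exact congrArg (fun t => ι1.app ⊤ t) ((Curves.GlobalSections.h0Equiv F1).apply_symm_apply t')
    have hinj0 := Curves.LES.mapK_injective_of_mono k φ
    haveI : Module.Finite k (Coh.HH X F1 0) := Module.Finite.of_injective _ hinj0
    exact absurd (lt_of_lt_of_le hlt ((LinearMap.finrank_le_finrank_of_surjective hsurj).trans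
      (LinearMap.finrank_le_finrank_of_injective hinj0))) (lt_irrefl _)
  -- the cokernel vanishes
  let S : ShortComplex X.Modules := ShortComplex.mk ι1 γ (kernel.condition γ)
  have hS : S.ShortExact :=
    { exact := ShortComplex.exact_of_f_is_kernel _ (kernelIsKernel γ)
      mono_f := inferInstanceAs (Mono (kernel.ι γ))
      epi_g := inferInstanceAs (Epi γ) }
  have hγ0 : ∀ t : Γ(F, ⊤), γ.app ⊤ t = 0 := fun t => by
    obtain ⟨t', rfl⟩ := hsec t
    have h1 : (ι1 ≫ γ).app ⊤ t' = 0 := by
      rw [kernel.condition γ]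
      rfl
    exact h1
  have hC0 : Subsingleton (Coh.HH X C 0) := subsingleton_of_forall_eq 0 fun c => by
    haveI : Subsingleton (Coh.HH X S.X₁ 1) := hF1h1
    obtain ⟨y, rfl⟩ := ((Curves.LES.exactK₃ k hS 0 1 rfl) c).1 (Subsingleton.elim _ _)
    rw [show Curves.LES.mapK k S.g 0 = 0 from Generate.mapK_zero_eq_zero k γ hγ0]
    rfl
  have hC : IsZero C := by
    by_contra hne
    exact Generate.not_subsingleton_HH_zero_of_torsion hCt hne hC0
  exact Preadditive.epi_of_isZero_cokernel _ hC

end Groth.Agent.H56.CurveDual.Rank1Generate
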